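import Mathlib.LinearAlgebra.Alternating.Basic
import Mathlib.LinearAlgebra.Determinant
import Mathlib.LinearAlgebra.Matrix.Determinant.Basic
import Mathlib.Algebra.Module.Submodule.Lattice

/-!
# Top wedges along an exact sequence: block triangular transition
-/

set_option autoImplicit false

namespace Groth.Agent.AdjForm

variable {R E N : Type*} [CommRing R] [AddCommGroup E] [Module R E] [AddCommGroup N] [Module R N]

section Single

variable {α : Type*}

/-- An alternating map vanishing as soon as an entry is in `K` only depends on the entries modulo `K`. -/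
theorem map_congr_mod [Fintype α] [DecidableEq α] (g : E [⋀^α]→ₗ[R] N) (K : Submodule R E)
    (hK : ∀ (v : α → E) (i : α), v i ∈ K → g v = 0) (v v' : α → E) (h : ∀ i, v' i - v i ∈ K) : g v' = g v := by
  classical
  have e : v' = v + fun i => v' i - v i := funext fun i => by simp
  rw [e]
  show g.toMultilinearMap _ = g.toMultilinearMap v
  rw [MultilinearMap.map_add_univ, Finset.sum_eq_single Finset.univ]
  · rw [Finset.piecewise_univ]
  · intro s _ hs
    obtain ⟨i, hi⟩ : ∃ i, i ∉ s := not_forall.1 fun hc => hs (Finset.eq_univ_of_forall hc)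
    refine hK _ i ?_
    rw [Finset.piecewise_eq_of_notMem _ _ _ hi]
    exact h i
  · simp

/-- An alternating map on linear combinations is multiplied by the determinant. -/
theorem map_sum_smul [Fintype α] [DecidableEq α] (g : E [⋀^α]→ₗ[R] N) (A : Matrix α α R) (v : α → E) :
    g (fun i => ∑ j, A i j • v j) = A.det • g v := by
  let p : (α → R) →ₗ[R] E := Fintype.linearCombination R v
  have hp : (fun i => p (Pi.basisFun R α i)) = v := funext fun i => by
    rw [Pi.basisFun_apply, Fintype.linearCombination_apply_single, one_smul]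
  have h : g.compLinearMap p = (LinearMap.toSpanSingleton R N (g v)).compAlternatingMap (Pi.basisFun R α).det := by
    refine Module.Basis.ext_alternating (Pi.basisFun R α) fun σ hσ => ?_
    let σ' : Equiv.Perm α := Equiv.ofBijective σ (Finite.injective_iff_bijective.1 hσ)
    show g (fun i => p (Pi.basisFun R α (σ' i))) =
      (Pi.basisFun R α).det (⇑(Pi.basisFun R α) ∘ σ') • g v
    rw [show (fun i => p (Pi.basisFun R α (σ' i))) = v ∘ σ' from funext fun i => congrFun hp (σ' i),
      AlternatingMap.map_perm, AlternatingMap.map_perm, Module.Basis.det_self]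
    rcases Int.units_eq_one_or (Equiv.Perm.sign σ') with hs | hs <;> simp [hs, Units.smul_def]
  have h1 := congrArg (fun f : (α → R) [⋀^α]→ₗ[R] N => f (fun i => A i)) h
  refine Eq.trans ?_ (h1.trans ?_)
  · exact congrArg g (funext fun i => (Fintype.linearCombination_apply _ _ _).symm)
  · show (Pi.basisFun R α).det (fun i => A i) • g v = A.det • g v
    rw [Pi.basisFun_det_apply]
    rfl

end Single

variable {α β : Type*}

/-- Fix the entries on the left. -/
def fixLeft [DecidableEq α] [DecidableEq β] (g : E [⋀^(α ⊕ β)]→ₗ[R] N) (u : α → E) : E [⋀^β]→ₗ[R] N where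
  toFun e := g (Sum.elim u e)
  map_update_add' e i x y := by
    classical
    simp only [← Sum.update_elim_inr]
    exact g.map_update_add (Sum.elim u e) (Sum.inr i) x y
  map_update_smul' e i c x := by
    classical
    simp only [← Sum.update_elim_inr]
    exact g.map_update_smul (Sum.elim u e) (Sum.inr i) c x
  map_eq_zero_of_eq' e i j h hij := g.map_eq_zero_of_eq _ (i := Sum.inr i) (j := Sum.inr j) h fun hc => hij (Sum.inr_injective hc)

/-- Fix the entries on the right. -/
def fixRight [DecidableEq α] [DecidableEq β] (g : E [⋀^(α ⊕ β)]→ₗ[R] N) (e : β → E) : E [⋀^α]→ₗ[R] N where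
  toFun u := g (Sum.elim u e)
  map_update_add' u i x y := by
    classical
    simp only [← Sum.update_elim_inl]
    exact g.map_update_add (Sum.elim u e) (Sum.inl i) x y
  map_update_smul' u i c x := by
    classical
    simp only [← Sum.update_elim_inl]
    exact g.map_update_smul (Sum.elim u e) (Sum.inl i) c x
  map_eq_zero_of_eq' u i j h hij := g.map_eq_zero_of_eq _ (i := Sum.inl i) (j := Sum.inl j) h fun hc => hij (Sum.inl_injective hc)

/-- **Block triangular transition.** -/
theorem map_block [Fintype α] [DecidableEq α] [Fintype β] [DecidableEq β] (g : E [⋀^(α ⊕ β)]→ₗ[R] N)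
    (K : Submodule R E) (hK : ∀ (v : α ⊕ β → E) (i : α ⊕ β), v i ∈ K → g v = 0) (u u' : α → E) (e e' : β → E)
    (A : Matrix α α R) (B : Matrix β β R) (hu : ∀ i, u' i - ∑ j, A i j • u j ∈ K)
    (he : ∀ i, e' i - ∑ j, B i j • e j ∈ Submodule.span R (Set.range u) ⊔ K) :
    g (Sum.elim u' e') = (A.det * B.det) • g (Sum.elim u e) := by
  have h1 : g (Sum.elim u' e') = A.det • g (Sum.elim u e') := by
    refine (map_congr_mod (fixRight g e') K (fun v i hv => hK _ (Sum.inl i) hv) _ u' hu).trans ?_
    exact map_sum_smul (fixRight g e') A u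
  have hK' : ∀ (v : β → E) (i : β), v i ∈ Submodule.span R (Set.range u) ⊔ K → fixLeft g u v = 0 := by
    intro v i hv
    obtain ⟨a, ha, b, hb, hab⟩ := Submodule.mem_sup.1 hv
    obtain ⟨c, rfl⟩ := (Submodule.mem_span_range_iff_exists_fun R).1 ha
    rw [← Function.update_eq_self i v, ← hab, AlternatingMap.map_update_add]
    have hb0 : fixLeft g u (Function.update v i b) = 0 := hK _ (Sum.inr i) (by simp [hb])
    rw [hb0, add_zero, AlternatingMap.map_update_sum]
    refine Finset.sum_eq_zero fun j _ => ?_
    rw [AlternatingMap.map_update_smul]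
    refine smul_eq_zero_of_right _ ?_
    exact g.map_eq_zero_of_eq _ (i := Sum.inl j) (j := Sum.inr i) (by simp) (by simp)
  have h2 : g (Sum.elim u e') = B.det • g (Sum.elim u e) := by
    refine (map_congr_mod (fixLeft g u) _ hK' _ e' he).trans ?_
    exact map_sum_smul (fixLeft g u) B e
  rw [h1, h2, smul_smul]

end Groth.Agent.AdjForm
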