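import Groth.Agent.AdjForm.Wedge
import Groth.Agent.InvBasic.QCoh
import Groth.Agent.QCohLib.FiniteType
import Groth.Prelude.Def_CohB1

/-!
# Existence of top exterior powers of locally free modules
-/

set_option autoImplicit false
set_option linter.style.haveILetI false
set_option maxHeartbeats 1000000

universe u

open CategoryTheory Opposite AlgebraicGeometry TopologicalSpace

namespace Groth.Agent.AdjForm

variable {X : Scheme.{u}} (E : X.Modules) (n : ℕ)

/-- Sectionwise exterior power. -/
abbrev ext (U : X.Opens) : Type u := ↥(⋀[Γ(X, U)]^n Γ(E, U))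

theorem exists_extRes {U V : X.Opens} (h : V ≤ U) :
    ∃ Φ : ext E n U →ₛₗ[(X.presheaf.map (homOfLE h).op).hom] ext E n V,
      ∀ e, Φ (exteriorPower.ιMulti _ n e) = exteriorPower.ιMulti _ n fun i => E.presheaf.map (homOfLE h).op (e i) := by
  let ρ := (X.presheaf.map (homOfLE h).op).hom
  let T : ModuleCat.{u} Γ(X, U) := (ModuleCat.restrictScalars ρ).obj (ModuleCat.of Γ(X, V) (ext E n V))
  let r : Γ(E, U) → Γ(E, V) := fun x => E.presheaf.map (homOfLE h).op x
  have hu : ∀ [DecidableEq (Fin n)] (e : Fin n → Γ(E, U)) (i : Fin n) (y : Γ(E, U)),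
      (fun j => r (Function.update e i y j)) = Function.update (fun j => r (e j)) i (r y) :=
    fun e i y => funext fun j => Function.apply_update (fun _ => r) e i y j
  let a : Γ(E, U) [⋀^Fin n]→ₗ[Γ(X, U)] T :=
    { toFun := fun e => (exteriorPower.ιMulti Γ(X, V) n fun i => r (e i) : ext E n V)
      map_update_add' := fun e i x y => by
        rw [hu, hu, hu, show r (x + y) = r x + r y from map_add (E.presheaf.map (homOfLE h).op).hom x y]
        exact (exteriorPower.ιMulti Γ(X, V) n).map_update_add _ _ _ _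
      map_update_smul' := fun e i c x => by
        rw [hu, hu, show r (c • x) = ρ c • r x from Scheme.Modules.map_smul E (homOfLE h) c x]
        exact (exteriorPower.ιMulti Γ(X, V) n).map_update_smul _ _ _ _
      map_eq_zero_of_eq' := fun e i j he hij =>
        (exteriorPower.ιMulti Γ(X, V) n).map_eq_zero_of_eq (fun l => r (e l)) (congrArg r he) hij }
  let Φ₀ := exteriorPower.alternatingMapLinearEquiv a
  exact ⟨{ toFun := fun z => (Φ₀ z : ext E n V), map_add' := map_add Φ₀, map_smul' := fun c z => map_smul Φ₀ c z },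
    fun e => exteriorPower.alternatingMapLinearEquiv_apply_ιMulti a e⟩

/-- Restriction of wedges. -/
noncomputable def extRes {U V : X.Opens} (h : V ≤ U) :
    ext E n U →ₛₗ[(X.presheaf.map (homOfLE h).op).hom] ext E n V :=
  (exists_extRes E n h).choose

theorem extRes_ιMulti {U V : X.Opens} (h : V ≤ U) (e : Fin n → Γ(E, U)) :
    extRes E n h (exteriorPower.ιMulti _ n e) = exteriorPower.ιMulti _ n fun i => E.presheaf.map (homOfLE h).op (e i) :=
  (exists_extRes E n h).choose_spec e

theorem extRes_smul {U V : X.Opens} (h : V ≤ U) (c : Γ(X, U)) (z : ext E n U) :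
    extRes E n h (c • z) = (X.presheaf.map (homOfLE h).op).hom c • extRes E n h z :=
  LinearMap.map_smulₛₗ _ c z

theorem ext_induction {U : X.Opens} {p : ext E n U → Prop} (z : ext E n U) (h0 : p 0)
    (hι : ∀ e, p (exteriorPower.ιMulti _ n e)) (hadd : ∀ a b, p a → p b → p (a + b))
    (hsmul : ∀ (c : Γ(X, U)) a, p a → p (c • a)) : p z := by
  have hz : z ∈ Submodule.span Γ(X, U) (Set.range (exteriorPower.ιMulti Γ(X, U) n (M := Γ(E, U)))) := by
    rw [exteriorPower.ιMulti_span]; trivial
  induction hz using Submodule.span_induction with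
  | mem a ha => obtain ⟨e, rfl⟩ := ha; exact hι e
  | zero => exact h0
  | add a b _ _ ha hb => exact hadd a b ha hb
  | smul c a _ ha => exact hsmul c a ha

theorem extRes_refl {U : X.Opens} (z : ext E n U) : extRes E n (le_refl U) z = z := by
  refine ext_induction E n (p := fun z => extRes E n (le_refl U) z = z) z (map_zero _) (fun e => ?_)
    (fun a b ha hb => by rw [map_add, ha, hb]) (fun c a ha => ?_)
  · rw [extRes_ιMulti]
    exact congrArg _ (funext fun i => QCohLib.map_self E le_rfl (e i))
  · rw [extRes_smul, ha]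
    simp

theorem extRes_extRes {U V W : X.Opens} (h : V ≤ U) (h' : W ≤ V) (z : ext E n U) :
    extRes E n h' (extRes E n h z) = extRes E n (h'.trans h) z := by
  refine ext_induction E n (p := fun z => extRes E n h' (extRes E n h z) = extRes E n (h'.trans h) z) z
    (by rw [map_zero, map_zero, map_zero]) (fun e => ?_)
    (fun a b ha hb => by rw [map_add, map_add, map_add, ha, hb]) (fun c a ha => ?_)
  · rw [extRes_ιMulti, extRes_ιMulti, extRes_ιMulti]
    exact congrArg _ (funext fun i => QCohLib.map_map E _ _ (e i))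
  · rw [extRes_smul, extRes_smul, extRes_smul, ha]
    congr 1
    exact (ConcreteCategory.congr_hom (X.presheaf.map_comp (homOfLE h).op (homOfLE h').op) c).symm

/-- The presheaf of exterior powers, of abelian groups. -/
noncomputable def extAb : X.Opensᵒᵖ ⥤ Ab.{u} where
  obj U := AddCommGrpCat.of (ext E n U.unop)
  map i := AddCommGrpCat.ofHom (extRes E n i.unop.le).toAddMonoidHom
  map_id U := AddCommGrpCat.ext fun z => extRes_refl E n z
  map_comp i j := AddCommGrpCat.ext fun z => (extRes_extRes E n i.unop.le j.unop.le z).symm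

noncomputable instance extAbModule (U : X.Opensᵒᵖ) : Module (X.ringCatSheaf.obj.obj U) ((extAb E n).obj U) :=
  inferInstanceAs (Module Γ(X, U.unop) (ext E n U.unop))

/-- The presheaf of exterior powers. -/
noncomputable def extPre : X.PresheafOfModules :=
  PresheafOfModules.ofPresheaf (extAb E n) fun _ _ i c z => extRes_smul E n i.unop.le c z

/-- The sheaf of exterior powers. -/
noncomputable def extSheaf : X.Modules := (CohB1.sheafifyMod X).obj (extPre E n)

/-- The canonical map to the sheafification. -/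
noncomputable def toExt : extPre E n ⟶
    (PresheafOfModules.restrictScalars (𝟙 X.ringCatSheaf.obj)).obj (extSheaf E n).val :=
  (PresheafOfModules.sheafificationAdjunction (𝟙 X.ringCatSheaf.obj)).unit.app _

/-- The canonical map on sections. -/
noncomputable def can (U : X.Opens) : ext E n U →ₗ[Γ(X, U)] Γ(extSheaf E n, U) where
  toFun z := (toExt E n).app (op U) z
  map_add' := map_add ((toExt E n).app (op U)).hom
  map_smul' := map_smul ((toExt E n).app (op U)).hom

theorem can_res {U V : X.Opens} (h : V ≤ U) (z : ext E n U) :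
    (extSheaf E n).presheaf.map (homOfLE h).op (can E n U z) = can E n V (extRes E n h z) :=
  (PresheafOfModules.naturality_apply (toExt E n) (homOfLE h).op z).symm

theorem toPresheaf_map_toExt :
    (PresheafOfModules.toPresheaf _).map (toExt E n) =
      toSheafify (Opens.grothendieckTopology X) (extPre E n).presheaf := by
  refine (PresheafOfModules.toPresheaf_map_sheafificationHomEquiv_def (𝟙 X.ringCatSheaf.obj)
    (𝟙 (extSheaf E n))).trans ?_
  exact Category.comp_id _

theorem can_apply (V : X.Opens) (w : ext E n V) :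
    can E n V w = (toSheafify (Opens.grothendieckTopology X) (extPre E n).presheaf).app (op V) w :=
  (congrArg (fun φ => (φ.app (op V)) w) (toPresheaf_map_toExt E n) :)

theorem can_locally_injective {V : X.Opens} (w : ext E n V) (hw : can E n V w = 0) {x : X} (hx : x ∈ V) :
    ∃ (W : X.Opens) (h : W ≤ V), x ∈ W ∧ extRes E n h w = 0 := by
  have e : (toSheafify (Opens.grothendieckTopology X) (extPre E n).presheaf).app (op V) w =
      (toSheafify (Opens.grothendieckTopology X) (extPre E n).presheaf).app (op V)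
        (0 : (extPre E n).obj (op V)) :=
    (can_apply E n V w).symm.trans (hw.trans (map_zero _).symm)
  have := Presheaf.equalizerSieve_mem (Opens.grothendieckTopology X)
    (toSheafify (Opens.grothendieckTopology X) (extPre E n).presheaf) _ _ e
  obtain ⟨W, f, hf, hxW⟩ := this x hx
  exact ⟨W, leOfHom f, hxW, hf.trans (map_zero _)⟩

theorem can_locally_surjective {V : X.Opens} (t : Γ(extSheaf E n, V)) {x : X} (hx : x ∈ V) :
    ∃ (W : X.Opens) (h : W ≤ V) (w : ext E n W), x ∈ W ∧
      can E n W w = (extSheaf E n).presheaf.map (homOfLE h).op t := by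
  have := Presheaf.imageSieve_mem (Opens.grothendieckTopology X)
    (toSheafify (Opens.grothendieckTopology X) (extPre E n).presheaf) (U := op V) t
  obtain ⟨W, f, ⟨w, hw⟩, hxW⟩ := this x hx
  exact ⟨W, leOfHom f, w, hxW, (can_apply E n W w).trans hw⟩

variable [E.IsQuasicoherent]

omit [E.IsQuasicoherent] in
theorem extRes_chart {U W : X.Opens} (hW : W ≤ U) (bU : Fin n → Γ(E, U)) (bW : Fin n → Γ(E, W))
    (h : ∀ i, bW i = E.presheaf.map (homOfLE hW).op (bU i)) :
    extRes E n hW (exteriorPower.ιMulti _ n bU) = exteriorPower.ιMulti _ n bW := by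
  rw [extRes_ιMulti]
  exact congrArg _ (funext fun i => (h i).symm)

/-- Over a chart the candidate generator has no annihilator. -/
theorem smul_chart_eq_zero {U W : X.Opens} (hU : IsAffineOpen U) (b : Module.Basis (Fin n) Γ(X, U) Γ(E, U)) (hW : W ≤ U)
    (c : Γ(X, W)) (hc : c • can E n W (extRes E n hW (exteriorPower.ιMulti _ n ⇑b)) = 0) : c = 0 := by
  rw [← map_smul] at hc
  choose W' h' hxW' h0 using fun x : W => can_locally_injective E n _ hc x.2
  refine TopCat.Sheaf.eq_of_locally_eq' X.sheaf W' W (fun x => homOfLE (h' x))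
    (fun x hx => Opens.mem_iSup.2 ⟨⟨x, hx⟩, hxW' ⟨x, hx⟩⟩) c 0 fun x => ?_
  obtain ⟨b', hb'⟩ := exists_basis_res E hU b ((h' x).trans hW)
  have h1 := h0 x
  rw [extRes_smul, extRes_extRes, extRes_chart E n _ _ _ hb'] at h1
  refine ((FundLocal.bijective_smul_ιMulti b').1 (a₁ := (X.presheaf.map (homOfLE (h' x)).op).hom c) (a₂ := 0) ?_).trans
    (map_zero _).symm
  show _ • _ = (0 : Γ(X, W' x)) • _
  rw [zero_smul]
  exact h1

/-- Over a chart the wedge of a basis is a basis of the sheafification. -/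
theorem isBasis_can {U : X.Opens} (hU : IsAffineOpen U) (b : Module.Basis (Fin n) Γ(X, U) Γ(E, U)) :
    InvBasic.IsBasis (extSheaf E n) (can E n U (exteriorPower.ιMulti _ n ⇑b)) := by
  intro W hW
  let ω : ∀ W : X.Opens, W ≤ U → Γ(extSheaf E n, W) := fun W hW => can E n W (extRes E n hW (exteriorPower.ιMulti _ n ⇑b))
  have hωres : ∀ (W W' : X.Opens) (hW : W ≤ U) (h : W' ≤ W),
      (extSheaf E n).presheaf.map (homOfLE h).op (ω W hW) = ω W' (h.trans hW) := fun W W' hW h => by
    show (extSheaf E n).presheaf.map (homOfLE h).op (can E n W _) = _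
    rw [can_res, extRes_extRes]
  have hinj : ∀ (W : X.Opens) (hW : W ≤ U) (c c' : Γ(X, W)), c • ω W hW = c' • ω W hW → c = c' := fun W hW c c' h =>
    sub_eq_zero.1 (smul_chart_eq_zero E n hU b hW _ (by rw [sub_smul, sub_eq_zero]; exact h))
  rw [show (extSheaf E n).presheaf.map (homOfLE hW).op (can E n U (exteriorPower.ιMulti _ n ⇑b)) = ω W hW from
    can_res E n hW _]
  refine ⟨hinj W hW, fun t => ?_⟩
  have hloc : ∀ x : W, ∃ (W' : X.Opens) (h : W' ≤ W) (d : Γ(X, W')), (x : X) ∈ W' ∧
      d • ω W' (h.trans hW) = (extSheaf E n).presheaf.map (homOfLE h).op t := fun x => by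
    obtain ⟨W', h', w, hx', hw⟩ := can_locally_surjective E n t x.2
    obtain ⟨b', hb'⟩ := exists_basis_res E hU b (h'.trans hW)
    obtain ⟨d, rfl⟩ := (FundLocal.bijective_smul_ιMulti b').2 w
    refine ⟨W', h', d, hx', ?_⟩
    rw [← hw]
    show d • can E n W' (extRes E n _ _) = _
    rw [extRes_chart E n _ _ _ hb']
    exact (map_smul (can E n W') d _).symm
  choose W' h' d hxW' hd using hloc
  have hcov : W ≤ ⨆ x, W' x := fun x hx => Opens.mem_iSup.2 ⟨⟨x, hx⟩, hxW' ⟨x, hx⟩⟩
  obtain ⟨c, hc, -⟩ := TopCat.Sheaf.existsUnique_gluing' X.sheaf W' W (fun x => homOfLE (h' x)) hcov d fun x y => by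
    have e1 := congrArg ((extSheaf E n).presheaf.map (homOfLE (inf_le_left : W' x ⊓ W' y ≤ W' x)).op) (hd x)
    have e2 := congrArg ((extSheaf E n).presheaf.map (homOfLE (inf_le_right : W' x ⊓ W' y ≤ W' y)).op) (hd y)
    rw [Scheme.Modules.map_smul, hωres, QCohLib.map_map] at e1 e2
    exact hinj (W' x ⊓ W' y) _ _ _ (e1.trans e2.symm)
  refine ⟨c, TopCat.Sheaf.eq_of_locally_eq' ⟨(extSheaf E n).presheaf, (extSheaf E n).isSheaf⟩ W' W
    (fun x => homOfLE (h' x)) hcov _ _ fun x => ?_⟩
  refine (Scheme.Modules.map_smul _ _ c (ω W hW)).trans (Eq.trans ?_ (hd x))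
  exact congrArg₂ (· • ·) (hc x) (hωres W (W' x) hW (h' x))

variable (hE : ∀ x : X, ∃ U : X.Opens, x ∈ U ∧ IsAffineOpen U ∧ Nonempty (Module.Basis (Fin n) Γ(X, U) Γ(E, U)))

include hE in
theorem isInvertible_extSheaf : PicF.IsInvertible (extSheaf E n) :=
  InvBasic.isInvertible_of_isBasis fun x => by
    obtain ⟨U, hx, hU, ⟨b⟩⟩ := hE x
    exact ⟨U, hx, _, isBasis_can E n hU b⟩

include hE in
theorem can_bijective {U : X.Opens} (hU : IsAffineOpen U) : Function.Bijective (can E n U) := by
  classical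
  haveI : (extSheaf E n).IsQuasicoherent := InvBasic.isQuasicoherent_of_isInvertible (isInvertible_extSheaf E n hE)
  have hloc : ∀ x : U, ∃ h : Γ(X, U), (x : X) ∈ X.basicOpen h ∧
      ∃ b : Module.Basis (Fin n) Γ(X, X.basicOpen h) Γ(E, X.basicOpen h),
        InvBasic.IsBasis (extSheaf E n) (can E n (X.basicOpen h) (exteriorPower.ιMulti _ n ⇑b)) := fun x => by
    obtain ⟨U', hx', hU', ⟨b⟩⟩ := hE x
    obtain ⟨h, hle, hxh⟩ := hU.exists_basicOpen_le ⟨(x : X), hx'⟩ x.2
    obtain ⟨b', -⟩ := exists_basis_res E hU' b hle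
    exact ⟨h, hxh, b', isBasis_can E n (hU.basicOpen h) b'⟩
  choose h hxh b hb using hloc
  have htop : Ideal.span (Set.range h) = ⊤ := by
    refine (hU.iSup_basicOpen_eq_self_iff).1 ?_
    refine le_antisymm (iSup_le fun a => ?_) fun x hx => ?_
    · obtain ⟨_, y, rfl⟩ := a
      exact X.basicOpen_le (h y)
    · exact Opens.mem_iSup.2 ⟨⟨h ⟨x, hx⟩, ⟨x, hx⟩, rfl⟩, hxh ⟨x, hx⟩⟩
  have hgen : ∀ x : U, ∃ (k : ℕ) (m : Fin n → Γ(E, U)),
      (∀ j, E.presheaf.map (homOfLE (X.basicOpen_le (h x))).op (m j) =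
        (X.presheaf.map (homOfLE (X.basicOpen_le (h x))).op (h x ^ k)) • b x j) ∧
      ∀ z : ext E n U, ∃ (K : ℕ) (a : Γ(X, U)), h x ^ K • z = a • exteriorPower.ιMulti _ n m := by
    intro x
    let D := X.basicOpen (h x)
    let hD : D ≤ U := X.basicOpen_le (h x)
    let ρ := (X.presheaf.map (homOfLE hD).op).hom
    letI := QCohLib.resModule E hD
    haveI := QCohLib.isLocalizedModule_res (M := E) hU (h x)
    letI := (X.presheaf.map (homOfLE hD).op).hom.toAlgebra
    haveI : IsLocalization.Away (h x) Γ(X, D) := hU.isLocalization_basicOpen (h x)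
    have hsurj : ∀ j, ∃ (k : ℕ) (m : Γ(E, U)), ρ (h x ^ k) • b x j = E.presheaf.map (homOfLE hD).op m := fun j => by
      obtain ⟨⟨m, ⟨_, k, rfl⟩⟩, hm⟩ := IsLocalizedModule.surj (Submonoid.powers (h x))
        (QCohLib.resLinearMap E hD) (b x j)
      exact ⟨k, m, hm⟩
    choose k₀ m₀ hm₀ using hsurj
    let k := Finset.univ.sup k₀
    let m := fun j => h x ^ (k - k₀ j) • m₀ j
    have hm : ∀ j, E.presheaf.map (homOfLE hD).op (m j) = ρ (h x ^ k) • b x j := fun j => by
      rw [Scheme.Modules.map_smul, ← hm₀, smul_smul]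
      show (ρ _ * ρ _) • _ = _
      rw [← map_mul, ← pow_add, Nat.sub_add_cancel (Finset.le_sup (Finset.mem_univ j))]
    have hy : ∀ y : Γ(E, U), ∃ (K : ℕ) (a : Fin n → Γ(X, U)), h x ^ K • y = ∑ j, a j • m j := by
      intro y
      obtain ⟨⟨_, l, rfl⟩, hl⟩ := IsLocalization.exist_integer_multiples_of_finite (Submonoid.powers (h x))
        (fun j => (b x).repr (E.presheaf.map (homOfLE hD).op y) j)
      choose a ha using hl
      have h0 : QCohLib.resLinearMap E hD (h x ^ (k + l) • y - ∑ j, a j • m j) = 0 := by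
        show E.presheaf.map (homOfLE hD).op _ = 0
        rw [map_sub, map_sum, Scheme.Modules.map_smul, sub_eq_zero]
        conv_lhs => rw [← (b x).sum_repr (E.presheaf.map (homOfLE hD).op y), Finset.smul_sum]
        refine Finset.sum_congr rfl fun j _ => ?_
        rw [Scheme.Modules.map_smul, hm, smul_smul, smul_smul]
        congr 1
        show ρ _ * _ = ρ (a j) * ρ _
        rw [show ρ (a j) = _ from ha j, pow_add, map_mul]
        show ρ _ * ρ _ * _ = ρ _ * _ * ρ _
        ring
      obtain ⟨⟨_, p, rfl⟩, hp⟩ := (IsLocalizedModule.eq_zero_iff (Submonoid.powers (h x))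
        (QCohLib.resLinearMap E hD)).1 h0
      refine ⟨p + (k + l), fun j => h x ^ p * a j, ?_⟩
      have hp' : h x ^ p • (h x ^ (k + l) • y - ∑ j, a j • m j) = 0 := hp
      rw [smul_sub, sub_eq_zero, Finset.smul_sum, smul_smul, ← pow_add] at hp'
      simp only [smul_smul] at hp'
      exact hp'
    refine ⟨k, m, hm, fun z => ?_⟩
    refine ext_induction E n (p := fun z => ∃ (K : ℕ) (a : Γ(X, U)), h x ^ K • z = a • exteriorPower.ιMulti _ n m) z
      ⟨0, 0, by rw [smul_zero, zero_smul]⟩ (fun e => ?_) ?_ ?_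
    · choose K a ha using fun i => hy (e i)
      refine ⟨∑ i, K i, (Matrix.of a).det, ?_⟩
      have h1 := (exteriorPower.ιMulti Γ(X, U) n (M := Γ(E, U))).map_smul_univ (fun i => h x ^ K i) e
      rw [Finset.prod_pow_eq_pow_sum] at h1
      rw [← h1, funext ha]
      exact map_sum_smul (exteriorPower.ιMulti Γ(X, U) n) (Matrix.of a) m
    · rintro z z' ⟨K, a, ha⟩ ⟨K', a', ha'⟩
      refine ⟨K + K', h x ^ K' * a + h x ^ K * a', ?_⟩
      rw [add_smul, mul_smul, mul_smul, ← ha, ← ha', smul_add, smul_smul, smul_smul, ← pow_add, ← pow_add, add_comm K' K]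
    · rintro c z ⟨K, a, ha⟩
      exact ⟨K, c * a, by rw [smul_comm, ha, smul_smul]⟩
  choose k m hm hz using hgen
  have hres : ∀ x : U, extRes E n (X.basicOpen_le (h x)) (exteriorPower.ιMulti _ n (m x)) =
      (X.presheaf.map (homOfLE (X.basicOpen_le (h x))).op).hom (h x ^ k x) ^ n • exteriorPower.ιMulti _ n ⇑(b x) := fun x => by
    rw [extRes_ιMulti, funext (hm x)]
    have h1 := (exteriorPower.ιMulti Γ(X, X.basicOpen (h x)) n (M := Γ(E, X.basicOpen (h x)))).map_smul_univ
      (fun _ => (X.presheaf.map (homOfLE (X.basicOpen_le (h x))).op).hom (h x ^ k x)) ⇑(b x)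
    rw [Finset.prod_const, Finset.card_univ, Fintype.card_fin] at h1
    exact h1
  have hunit : ∀ x : U, IsUnit ((X.presheaf.map (homOfLE (X.basicOpen_le (h x))).op).hom (h x ^ k x) ^ n) := fun x => by
    rw [map_pow]
    exact ((X.toRingedSpace.isUnit_res_basicOpen (h x)).pow _).pow _
  refine ⟨?_, fun s => ?_⟩
  · rw [injective_iff_map_eq_zero]
    intro z hz0
    let T : Ideal Γ(X, U) :=
      { carrier := {a | a • z = 0}
        add_mem' := fun {a a'} ha ha' => by
          show (a + a') • z = 0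
          rw [add_smul, show a • z = 0 from ha, show a' • z = 0 from ha', add_zero]
        zero_mem' := zero_smul _ z
        smul_mem' := fun c a ha => by
          show (c * a) • z = 0
          rw [mul_smul, show a • z = 0 from ha, smul_zero] }
    have hT : T.radical = ⊤ := by
      rw [eq_top_iff, ← htop, Ideal.span_le]
      rintro _ ⟨x, rfl⟩
      obtain ⟨K, a, ha⟩ := hz x z
      let ρ := (X.presheaf.map (homOfLE (X.basicOpen_le (h x))).op).hom
      have h1 := congrArg ((extSheaf E n).presheaf.map (homOfLE (X.basicOpen_le (h x))).op) (congrArg (can E n U) ha)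
      rw [map_smul, hz0, smul_zero, map_zero, can_res, extRes_smul, hres, smul_smul, map_smul] at h1
      have h2 : ρ a * ρ (h x ^ k x) ^ n = 0 := InvPow.coef_unique (hb x) (by rw [zero_smul]; exact h1.symm)
      rw [(hunit x).mul_left_eq_zero] at h2
      letI := (X.presheaf.map (homOfLE (X.basicOpen_le (h x))).op).hom.toAlgebra
      haveI : IsLocalization.Away (h x) Γ(X, X.basicOpen (h x)) := hU.isLocalization_basicOpen (h x)
      obtain ⟨⟨_, p, rfl⟩, hp⟩ := (IsLocalization.map_eq_zero_iff (Submonoid.powers (h x)) Γ(X, X.basicOpen (h x)) a).1 h2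
      refine ⟨p + K, ?_⟩
      show h x ^ (p + K) • z = 0
      rw [pow_add, mul_smul, ha, smul_smul, show h x ^ p * a = 0 from hp, zero_smul]
    have h1 : (1 : Γ(X, U)) ∈ T := (Ideal.eq_top_iff_one T).1 (Ideal.radical_eq_top.1 hT)
    rwa [show (1 : Γ(X, U)) ∈ T ↔ (1 : Γ(X, U)) • z = 0 from Iff.rfl, _root_.one_smul] at h1
  · let T : Ideal Γ(X, U) :=
      { carrier := {a | a • s ∈ LinearMap.range (can E n U)}
        add_mem' := fun {a a'} ha ha' => by
          simp only [Set.mem_setOf_eq] at ha ha' ⊢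
          rw [add_smul]; exact add_mem ha ha'
        zero_mem' := by simp only [Set.mem_setOf_eq, zero_smul]; exact zero_mem _
        smul_mem' := fun c a ha => by
          simp only [Set.mem_setOf_eq, smul_eq_mul] at ha ⊢
          rw [mul_smul]; exact Submodule.smul_mem _ c ha }
    have hT : T.radical = ⊤ := by
      rw [eq_top_iff, ← htop, Ideal.span_le]
      rintro _ ⟨x, rfl⟩
      let hD : X.basicOpen (h x) ≤ U := X.basicOpen_le (h x)
      let ρ := (X.presheaf.map (homOfLE hD).op).hom
      letI := QCohLib.resModule (extSheaf E n) hD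
      haveI := QCohLib.isLocalizedModule_res (M := extSheaf E n) hU (h x)
      letI := (X.presheaf.map (homOfLE hD).op).hom.toAlgebra
      haveI : IsLocalization.Away (h x) Γ(X, X.basicOpen (h x)) := hU.isLocalization_basicOpen (h x)
      obtain ⟨c, hc⟩ := InvPow.exists_coef (hb x) ((extSheaf E n).presheaf.map (homOfLE hD).op s)
      obtain ⟨⟨c', ⟨_, l, rfl⟩⟩, hl⟩ := IsLocalization.surj (Submonoid.powers (h x)) c
      change c * ρ (h x ^ l) = ρ c' at hl
      have h0 : QCohLib.resLinearMap (extSheaf E n) hD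
          ((h x ^ l * (h x ^ k x) ^ n) • s - c' • can E n U (exteriorPower.ιMulti _ n (m x))) = 0 := by
        show (extSheaf E n).presheaf.map (homOfLE hD).op _ = 0
        rw [map_sub, Scheme.Modules.map_smul, Scheme.Modules.map_smul, can_res, hres, map_smul, hc, smul_smul, smul_smul,
          sub_eq_zero]
        congr 1
        show ρ _ * c = ρ c' * ρ _ ^ n
        rw [← hl, map_mul, map_pow ρ (h x ^ k x)]
        ring
      obtain ⟨⟨_, p, rfl⟩, hp⟩ := (IsLocalizedModule.eq_zero_iff (Submonoid.powers (h x))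
        (QCohLib.resLinearMap (extSheaf E n) hD)).1 h0
      replace hp : h x ^ p • ((h x ^ l * (h x ^ k x) ^ n) • s - c' • can E n U (exteriorPower.ιMulti _ n (m x))) = 0 := hp
      refine ⟨p + (l + k x * n), ?_⟩
      show h x ^ (p + (l + k x * n)) • s ∈ LinearMap.range (can E n U)
      rw [pow_add, pow_add, pow_mul, mul_smul]
      rw [smul_sub, sub_eq_zero] at hp
      rw [hp]
      exact Submodule.smul_mem _ _ (Submodule.smul_mem _ _ ⟨_, rfl⟩)
    have h1 : (1 : Γ(X, U)) • s ∈ LinearMap.range (can E n U) :=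
      (Ideal.eq_top_iff_one T).1 (Ideal.radical_eq_top.1 hT)
    rwa [_root_.one_smul] at h1

include hE in
/-- **Top exterior powers exist.** -/
theorem exists_isExtPow : ∃ L : X.Modules, ExtPow.IsExtPow n E L ∧ PicF.IsInvertible L := by
  refine ⟨extSheaf E n, ⟨fun U => (LinearEquiv.ofBijective (can E n U.1) (can_bijective E n hE U.2)).symm,
    fun U V h e => ?_⟩, isInvertible_extSheaf E n hE⟩
  show (extSheaf E n).presheaf.map (homOfLE h).op (can E n U.1 (exteriorPower.ιMulti _ n e)) = can E n V.1 _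
  exact (can_res E n h _).trans (congrArg _ (extRes_ιMulti E n h e))

end Groth.Agent.AdjForm
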