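import Groth.Agent.AdjForm.Main
import Groth.Agent.AdjForm.ExtExists
import Groth.Agent.FundLocal.HomInv
import Groth.Agent.FundLocal.Main
import Groth.Agent.QCohLib.Pullback
import Groth.Agent.KRIdeal.Immersion
import Groth.Agent.S8905
import Groth.Agent.S5003

/-!
# Consequences of the adjunction formula
-/

set_option autoImplicit false
set_option linter.style.haveILetI false

universe u

open CategoryTheory CategoryTheory.Limits Opposite AlgebraicGeometry TopologicalSpace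

namespace Groth.Agent.AdjForm

open Groth.Agent.ModGroth Groth.Agent.SSExist

variable {S P X : Scheme.{u}}

/-- An immersion between smooth schemes over a base is Koszul regular. -/
theorem isRegularImmersion_koszul (g : P ⟶ S) (f : X ⟶ S) [Smooth g] [Smooth f] (ι : X ⟶ P) [IsImmersion ι]
    (hι : ι ≫ g = f) : RegImm.IsRegularImmersion RegImm.Kind.koszul ι := by
  subst hι
  exact KRIdeal.isRegularImmersion_of_schLCI ι (KRIdeal.schLCI_of_comp ι g (KRIdeal.schLCI_of_smooth (ι ≫ g)))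

/-- Over a locally Noetherian ambient scheme it is regular. -/
theorem isRegularImmersion_regular (g : P ⟶ S) (f : X ⟶ S) [Smooth g] [Smooth f] [IsLocallyNoetherian P]
    (ι : X ⟶ P) [IsImmersion ι] (hι : ι ≫ g = f) : RegImm.IsRegularImmersion RegImm.Kind.regular ι := by
  obtain ⟨-, h2, h3⟩ := Groth.Agent.S8905.result ι
  exact (Groth.Agent.S5003.result ι).2 (h3 (h2 (isRegularImmersion_koszul g f ι hι)))

/-- A good open from a regular sequence. -/
theorem exists_good_of_at (ι : X ⟶ P) [IsClosedImmersion ι] (x : X)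
    (h : RegImm.IsRegularImmersionAt RegImm.Kind.regular ι x) :
    ∃ (U : P.affineOpens) (rs : List Γ(P, U.1)), ι x ∈ U.1 ∧ RegImm.Kind.regular.Seq Γ(P, U.1) rs ∧
      RingHom.ker (ι.app U.1).hom = Ideal.ofList rs ∧ Nonempty (FundLocal.Good ι rs.length U.1) := by
  obtain ⟨U, hzU, -, rs, hreg, hker⟩ := h
  refine ⟨U, rs, hzU, hreg, hker, ⟨{
    aff := U.2
    f := fun i => ⟨rs[(i : ℕ)], by
      show rs[(i : ℕ)] ∈ RingHom.ker (ι.app U.1).hom
      rw [hker]
      exact Ideal.subset_span (List.getElem_mem i.2)⟩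
    reg := ?_
    span := ?_ }⟩⟩
  · show RingTheory.Sequence.IsWeaklyRegular _ (List.ofFn fun i : Fin rs.length => rs[(i : ℕ)])
    rw [List.ofFn_getElem]
    exact RingTheory.Sequence.IsRegular.toIsWeaklyRegular hreg
  · show Ideal.span (Set.range fun i : Fin rs.length => rs[(i : ℕ)]) = RingHom.ker (ι.app U.1).hom
    rw [hker, Ideal.ofList]
    refine congrArg Ideal.span (Set.ext fun a => ?_)
    rw [Set.mem_setOf_eq, List.mem_iff_getElem, Set.mem_range]
    exact ⟨fun ⟨i, hi⟩ => ⟨i.1, i.2, hi⟩, fun ⟨i, hi, h⟩ => ⟨⟨i, hi⟩, h⟩⟩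

variable (g : P ⟶ S) (f : X ⟶ S) (ι : X ⟶ P) [IsClosedImmersion ι] (hι : ι ≫ g = f) (n r : ℕ)
  [QuasiSeparated g] [QuasiSeparated f] [SmoothOfRelativeDimension n g] [SmoothOfRelativeDimension r f]

include hι in
/-- The codimension is the difference of the relative dimensions. -/
theorem isRegularImmersionOfCodim_sub (hreg : RegImm.IsRegularImmersion RegImm.Kind.regular ι) :
    RegImm.IsRegularImmersionOfCodim RegImm.Kind.regular (n - r) ι := by
  haveI : Smooth g := SmoothOfRelativeDimension.smooth n g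
  haveI : Smooth f := SmoothOfRelativeDimension.smooth r f
  refine ⟨hreg.1, fun x => ?_⟩
  obtain ⟨U, rs, hxU, hseq, hker, ⟨gd⟩⟩ := exists_good_of_at ι x (hreg.2 x)
  obtain ⟨W₂, hxW₂, hW₂₁, hW₂, ⟨V, hV, hW₂V⟩, ⟨p⟩⟩ := exists_frame g n (ι x) U.1 hxU
  obtain ⟨U', hxU', hU'W₂, hU', -, ⟨q⟩⟩ := exists_frame f r x (ι ⁻¹ᵁ W₂) hxW₂
  obtain ⟨U₀, hU₀, hU₀eq⟩ := ι.isClosedEmbedding.isInducing.isOpen_iff.1 U'.2
  obtain ⟨W, hW, hxW, hWle⟩ := exists_isAffineOpen_mem_and_subset (U := (⟨U₀, hU₀⟩ : P.Opens) ⊓ W₂)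
    (show ι x ∈ (⟨U₀, hU₀⟩ : P.Opens) ⊓ W₂ from ⟨(hU₀eq.symm.le hxU' : x ∈ ι ⁻¹' U₀), hxW₂⟩)
  have hWW₂ : W ≤ W₂ := fun z hz => (hWle hz).2
  have hWU : ι ⁻¹ᵁ W ≤ U' := fun z hz => hU₀eq.le (hWle hz).1
  haveI := ConormalSection.omega_isQuasicoherent g
  haveI := ConormalSection.omega_isQuasicoherent f
  obtain ⟨p', -⟩ := exists_basis_res (Omega.sheaf g) hW₂ p hWW₂
  obtain ⟨q', -⟩ := exists_basis_res (Omega.sheaf f) hU' q hWU
  choose e he using fun i => pi_surjective g f ι hι hW hV (hWW₂.trans hW₂V) (q' i)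
  let C : Chart g f ι hι n r rs.length W := ⟨hW, V, hV, hWW₂.trans hW₂V,
    gd.res hW (hWW₂.trans hW₂₁), p', e, q', fun i => (he i).symm⟩
  have hn := C.dim_eq x hxW
  refine ⟨U, hxU, IsZariskiLocalAtTarget.restrict (P := @IsClosedImmersion) ‹IsClosedImmersion ι› U.1, rs, ?_, hseq, hker⟩
  omega

omit [QuasiSeparated g] [QuasiSeparated f] [SmoothOfRelativeDimension n g] [SmoothOfRelativeDimension r f] in
/-- The conormal sheaf of a regular immersion has local bases. -/
theorem exists_basis_conormal (c : ℕ) (hreg : RegImm.IsRegularImmersionOfCodim RegImm.Kind.regular c ι) (x : X) :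
    ∃ U : X.Opens, x ∈ U ∧ IsAffineOpen U ∧ Nonempty (Module.Basis (Fin c) Γ(X, U) Γ(Omega.conormal ι, U)) := by
  obtain ⟨W, hxW, -, hW, hg⟩ := FundLocal.exists_good hreg ⊤ (ι x) trivial
  obtain ⟨gd⟩ : Nonempty (FundLocal.Good ι c W) := hg.resolve_right fun h =>
    (h.le (show x ∈ ι ⁻¹ᵁ W from hxW) : x ∈ (⊥ : X.Opens))
  obtain ⟨b, -⟩ := FundLocal.exists_basis_cls ι hW gd.f gd.reg gd.span
  exact ⟨_, hxW, hW.preimage ι, ⟨b⟩⟩

omit [QuasiSeparated g] [QuasiSeparated f] [SmoothOfRelativeDimension n g] [SmoothOfRelativeDimension r f] in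
/-- The top exterior power of the conormal sheaf exists. -/
theorem exists_conormalPow (c : ℕ) (hreg : RegImm.IsRegularImmersionOfCodim RegImm.Kind.regular c ι) :
    ∃ L : X.Modules, ExtPow.IsExtPow c (Omega.conormal ι) L ∧ PicF.IsInvertible L := by
  haveI := ConormalSection.isQuasicoherent_idealMod ι.ker
  haveI : (Omega.conormal ι).IsQuasicoherent := QCohLib.isQuasicoherent_pullback ι (ClSub.idealMod ι.ker)
  exact exists_isExtPow (Omega.conormal ι) c (exists_basis_conormal ι c hreg)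

/-- `Hom(L, M ⊗ L) ≅ M` for an invertible module. -/
theorem nonempty_sheafHom_tensor_iso {C : X.Modules} (hC : PicF.IsInvertible C)
    [ModSite.HasSheafHom (O := X.sheaf) C] (M : X.Modules) :
    Nonempty ((ModSite.sheafHom (O := X.sheaf) C).obj (CohB1.tensorMod M C) ≅ M) := by
  obtain ⟨A, ⟨e⟩⟩ := NegVanish.exists_inverse hC
  let u0 : unitObj X.sheaf ≅ ModSite.unit X.sheaf :=
    haveI : IsIso (adjn X.sheaf).counit :=
      inferInstanceAs (IsIso (PresheafOfModules.sheafificationAdjunction (𝟙 (ModSite.ringSh X.sheaf).obj)).counit)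
    (asIso (adjn X.sheaf).counit).app (ModSite.unit X.sheaf)
  let eCA : ((ModSite.tensorBi X.sheaf).obj C).obj A ≅ unitObj X.sheaf := e ≪≫ u0.symm
  let eAC : ((ModSite.tensorBi X.sheaf).obj A).obj C ≅ unitObj X.sheaf :=
    ((tensorSymm (O := X.sheaf) C).app A).symm ≪≫ eCA
  let T := ProjCoh.tensorEquivalence A C eAC eCA
  let α : ModSite.sheafHom (O := X.sheaf) C ≅ tR A :=
    (ModSite.sheafHomAdj (O := X.sheaf) C).rightAdjointUniq T.toAdjunction
  exact ⟨α.app (CohB1.tensorMod M C) ≪≫ (T.unitIso.app M).symm⟩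

include hι in
/-- **`ι_* ω_X` is an Ext sheaf.** -/
theorem nonempty_push_iso_extSh [IsLocallyNoetherian P] {ωP : P.Modules} (hωP : ExtPow.IsExtPow n (Omega.sheaf g) ωP)
    {ωX : X.Modules} (hωX : ExtPow.IsExtPow r (Omega.sheaf f) ωX)
    [ModSite.HasSheafHom (O := P.sheaf) (FundLocal.oX ι)] [HasInjectiveResolutions (ModSite.Mod P.sheaf)] :
    Nonempty ((Scheme.Modules.pushforward ι).obj ωX ≅
      (ModSite.extSh (O := P.sheaf) (FundLocal.oX ι) (n - r)).obj ωP) := by
  haveI : Smooth g := SmoothOfRelativeDimension.smooth n g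
  haveI : Smooth f := SmoothOfRelativeDimension.smooth r f
  have hreg := isRegularImmersionOfCodim_sub g f ι hι n r (isRegularImmersion_regular g f ι hι)
  obtain ⟨L, hL, hLinv⟩ := exists_conormalPow ι (n - r) hreg
  haveI : ModSite.HasSheafHom (O := X.sheaf) L := Groth.Agent.ModGroth.hasSheafHom (O := X.sheaf) L
  have hF : Coh.IsQCoh ωP := by
    obtain ⟨φP, hφP⟩ := hωP
    exact InvBasic.isQuasicoherent_of_isInvertible (isInvertible_omegaP φP hφP)
  obtain ⟨e1⟩ := FundLocal.nonempty_extSh_iso ωP hF hL hreg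
  obtain ⟨e2⟩ := nonempty_iso g f ι hι n r (n - r) hreg hωP hωX hL
  obtain ⟨e3⟩ := nonempty_sheafHom_tensor_iso hLinv ωX
  exact ⟨(Scheme.Modules.pushforward ι).mapIso
    (e3.symm ≪≫ (ModSite.sheafHom (O := X.sheaf) L).mapIso e2.symm) ≪≫ e1.symm⟩

end Groth.Agent.AdjForm
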