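import Groth.Agent.AdjForm.PiMap
import Mathlib.RingTheory.Smooth.Basic
import Mathlib.RingTheory.RingHom.Smooth

/-!
# Equations of a smooth subscheme have independent differentials
-/

set_option autoImplicit false
set_option linter.style.haveILetI false

universe u

open CategoryTheory Opposite AlgebraicGeometry TopologicalSpace TensorProduct

namespace Groth.Agent.AdjForm

variable {S P X : Scheme.{u}} (g : P ⟶ S) (f : X ⟶ S) [QuasiSeparated g] [Smooth g] [Smooth f]
  (ι : X ⟶ P) [IsClosedImmersion ι] (hι : ι ≫ g = f)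

include hι in
/-- An equation whose differential vanishes on `X` lies in the square of the ideal. -/
theorem mem_sq_of_dSect_mem {W : P.Opens} (hW : IsAffineOpen W) {V : S.Opens} (hV : IsAffineOpen V) (hWV : W ≤ g ⁻¹ᵁ V)
    (a : Γ(P, W)) (ha : a ∈ FundLocal.vanI ι W)
    (hd : OmegaSh.dSect g W a ∈ (FundLocal.vanI ι W) • (⊤ : Submodule Γ(P, W) Γ(Omega.sheaf g, W))) :
    a ∈ FundLocal.vanI ι W * FundLocal.vanI ι W := by
  subst hι
  let U := ι ⁻¹ᵁ W
  have hUV : U ≤ (ι ≫ g) ⁻¹ᵁ V := fun z hz => hWV hz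
  letI algB : Algebra Γ(S, V) Γ(P, W) := (g.appLE V W hWV).hom.toAlgebra
  letI algA : Algebra Γ(S, V) Γ(X, U) := ((ι ≫ g).appLE V U hUV).hom.toAlgebra
  letI algBA : Algebra Γ(P, W) Γ(X, U) := (ι.app W).hom.toAlgebra
  haveI : IsScalarTower Γ(S, V) Γ(P, W) Γ(X, U) := IsScalarTower.of_algebraMap_eq fun c => by
    show ((ι ≫ g).appLE V U hUV).hom c = ι.app W (g.appLE V W hWV c)
    rw [Scheme.Hom.app_eq_appLE, ← ConcreteCategory.comp_apply, Scheme.Hom.appLE_comp_appLE]
  haveI : Algebra.Smooth Γ(S, V) Γ(P, W) := g.smooth_appLE hV hW hWV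
  haveI : Algebra.Smooth Γ(S, V) Γ(X, U) := (ι ≫ g).smooth_appLE hV (hW.preimage ι) hUV
  have hsurj : Function.Surjective (algebraMap Γ(P, W) Γ(X, U)) := app_surjective ι hW
  obtain ⟨l, hl⟩ := (Algebra.FormallySmooth.iff_split_injection (R := Γ(S, V)) hsurj).1 inferInstance
  let x : RingHom.ker (algebraMap Γ(P, W) Γ(X, U)) := ⟨a, ha⟩
  let e : (Ω[Γ(P, W)⁄Γ(S, V)]) ≃ₗ[Γ(P, W)] Γ(Omega.sheaf g, W) :=
    LinearEquiv.ofBijective (OmAff.toSect g V W hWV).hom (ConormalSection.bijective_toSect g hW hV hWV)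
  have hD : KaehlerDifferential.D Γ(S, V) Γ(P, W) a ∈
      (FundLocal.vanI ι W) • (⊤ : Submodule Γ(P, W) (Ω[Γ(P, W)⁄Γ(S, V)])) := by
    have h1 : e (KaehlerDifferential.D Γ(S, V) Γ(P, W) a) = OmegaSh.dSect g W a := OmAff.toSect_d g V W hWV a
    have h2 : KaehlerDifferential.D Γ(S, V) Γ(P, W) a = e.symm (OmegaSh.dSect g W a) := by
      rw [← h1, LinearEquiv.symm_apply_apply]
    rw [h2]
    have h3 := Submodule.mem_map_of_mem (f := e.symm.toLinearMap) hd
    rw [Submodule.map_smul''] at h3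
    exact Submodule.smul_mono le_rfl le_top h3
  have h0 : KaehlerDifferential.kerCotangentToTensor Γ(S, V) Γ(P, W) Γ(X, U) (Ideal.toCotangent _ x) = 0 := by
    rw [KaehlerDifferential.kerCotangentToTensor_toCotangent]
    refine Submodule.smul_induction_on (p := fun w => (1 : Γ(X, U)) ⊗ₜ[Γ(P, W)] w = 0) hD (fun i hi w _ => ?_)
      fun w w' h h' => by rw [TensorProduct.tmul_add, h, h', add_zero]
    rw [← TensorProduct.smul_tmul, Algebra.smul_def, mul_one,
      show algebraMap Γ(P, W) Γ(X, U) i = 0 from hi, TensorProduct.zero_tmul]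
  have h4 : Ideal.toCotangent _ x = 0 := by
    have := congrArg l h0
    rw [map_zero] at this
    exact ((LinearMap.congr_fun hl (Ideal.toCotangent _ x)).symm.trans this)
  rw [Ideal.toCotangent_eq_zero, pow_two] at h4
  exact h4

end Groth.Agent.AdjForm
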