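import Groth.Agent.AdjForm.QBasis
import Groth.Agent.AdjForm.Alg
import Groth.Agent.FundLocal.ConormalOmega
import Groth.Agent.InvBasic.OfBasis
import Groth.Agent.InvPow.PullBasisLocal
import Groth.Prelude.Def_ExtPow2

/-!
# Wedge sections of a top exterior power
-/

set_option autoImplicit false
set_option linter.style.haveILetI false

universe u

open CategoryTheory Opposite AlgebraicGeometry TopologicalSpace

namespace Groth.Agent.AdjForm

/-- A section which is a basis on every affine open inside is a basis. -/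
theorem isBasis_of_affine {X : Scheme.{u}} (L : X.Modules) {U : X.Opens} (ℓ : Γ(L, U))
    (h : ∀ (W : X.Opens) (hW : W ≤ U), IsAffineOpen W →
      Function.Bijective fun c : Γ(X, W) => c • (L.presheaf.map (homOfLE hW).op ℓ : Γ(L, W))) :
    InvBasic.IsBasis L ℓ := by
  intro W hW
  let I := {A : X.Opens // IsAffineOpen A ∧ A ≤ W}
  have hcov : ∀ x : X, x ∈ W → ∃ A : I, x ∈ A.1 := fun x hx => by
    obtain ⟨A, hA, hxA, hAW⟩ := exists_isAffineOpen_mem_and_subset (U := W) hx
    exact ⟨⟨A, hA, hAW⟩, hxA⟩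
  have hres : ∀ (A : I) (c : Γ(X, W)), L.presheaf.map (homOfLE A.2.2).op
      (c • (L.presheaf.map (homOfLE hW).op ℓ : Γ(L, W))) =
      X.presheaf.map (homOfLE A.2.2).op c • L.presheaf.map (homOfLE (A.2.2.trans hW)).op ℓ := fun A c => by
    rw [Scheme.Modules.map_smul, QCohLib.map_map]
  have hcov' : W ≤ ⨆ A : I, A.1 := fun x hx => by
    obtain ⟨A, hA⟩ := hcov x hx
    exact Opens.mem_iSup.2 ⟨A, hA⟩
  constructor
  · intro c c' hcc
    refine TopCat.Sheaf.eq_of_locally_eq' X.sheaf (fun A : I => A.1) W (fun A => homOfLE A.2.2) hcov' c c' fun A => ?_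
    refine (h A.1 (A.2.2.trans hW) A.2.1).1 ?_
    exact (hres A c).symm.trans ((congrArg (L.presheaf.map (homOfLE A.2.2).op) hcc).trans (hres A c'))
  · intro q
    choose c hc using fun A : I => (h A.1 (A.2.2.trans hW) A.2.1).2 (L.presheaf.map (homOfLE A.2.2).op q)
    have hcomp : ∀ (A B : I) (C : X.Opens) (hA : C ≤ A.1) (hB : C ≤ B.1), IsAffineOpen C →
        X.presheaf.map (homOfLE hA).op (c A) = X.presheaf.map (homOfLE hB).op (c B) := by
      intro A B C hA hB hC
      refine (h C ((hA.trans A.2.2).trans hW) hC).1 ?_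
      have eA := congrArg (L.presheaf.map (homOfLE hA).op) (hc A)
      have eB := congrArg (L.presheaf.map (homOfLE hB).op) (hc B)
      simp only [Scheme.Modules.map_smul, QCohLib.map_map] at eA eB
      exact eA.trans eB.symm
    obtain ⟨t, ht, -⟩ := TopCat.Sheaf.existsUnique_gluing' X.sheaf (fun A : I => A.1) W (fun A => homOfLE A.2.2) hcov' c
      fun A B => by
        let J := {C : X.Opens // IsAffineOpen C ∧ C ≤ A.1 ⊓ B.1}
        refine TopCat.Sheaf.eq_of_locally_eq' X.sheaf (fun C : J => C.1) (A.1 ⊓ B.1) (fun C => homOfLE C.2.2)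
          (fun x hx => ?_) _ _ fun C => ?_
        · obtain ⟨C, hC, hxC, hCle⟩ := exists_isAffineOpen_mem_and_subset (U := A.1 ⊓ B.1) hx
          exact Opens.mem_iSup.2 ⟨⟨C, hC, hCle⟩, hxC⟩
        · show X.presheaf.map _ (X.presheaf.map _ (c A)) = X.presheaf.map _ (X.presheaf.map _ (c B))
          rw [← ConcreteCategory.comp_apply, ← ConcreteCategory.comp_apply, ← Functor.map_comp, ← Functor.map_comp]
          exact hcomp A B C.1 (C.2.2.trans inf_le_left) (C.2.2.trans inf_le_right) C.2.1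
    refine ⟨t, TopCat.Sheaf.eq_of_locally_eq' ⟨L.presheaf, L.isSheaf⟩ (fun A : I => A.1) W (fun A => homOfLE A.2.2)
      hcov' _ _ fun A => ?_⟩
    refine (hres A t).trans ?_
    rw [show X.presheaf.map (homOfLE A.2.2).op t = c A from ht A]
    exact hc A

variable {X : Scheme.{u}} {n : ℕ} {E L : X.Modules}
  (φ : ∀ U : X.affineOpens, (L.val.obj (op U.1)) ≃ₗ[Γ(X, U.1)] ↥(⋀[Γ(X, U.1)]^n (E.val.obj (op U.1))))

/-- The wedge of sections. -/
noncomputable def wedge {U : X.Opens} (hU : IsAffineOpen U) : Γ(E, U) [⋀^Fin n]→ₗ[Γ(X, U)] Γ(L, U) :=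
  (φ ⟨U, hU⟩).symm.toLinearMap.compAlternatingMap (exteriorPower.ιMulti Γ(X, U) n)

variable (hφ : ∀ (U V : X.affineOpens) (h : V.1 ≤ U.1) (e : Fin n → E.val.obj (op U.1)),
      L.val.map (homOfLE h).op ((φ U).symm (exteriorPower.ιMulti _ n e)) =
        (φ V).symm (exteriorPower.ιMulti _ n (fun j => E.val.map (homOfLE h).op (e j))))

include hφ in
theorem wedge_res {U U' : X.Opens} (hU : IsAffineOpen U) (hU' : IsAffineOpen U') (h : U' ≤ U) (e : Fin n → Γ(E, U)) :
    L.presheaf.map (homOfLE h).op (wedge φ hU e) = wedge φ hU' fun j => E.presheaf.map (homOfLE h).op (e j) :=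
  hφ ⟨U, hU⟩ ⟨U', hU'⟩ h e

include hφ in
/-- The wedge of a basis is a basis. -/
theorem isBasis_wedge [E.IsQuasicoherent] {U : X.Opens} (hU : IsAffineOpen U) (b : Module.Basis (Fin n) Γ(X, U) Γ(E, U)) :
    InvBasic.IsBasis L (wedge φ hU ⇑b) := by
  refine isBasis_of_affine L _ fun W hW hWa => ?_
  obtain ⟨b', hb'⟩ := exists_basis_res E hU b hW
  rw [wedge_res φ hφ hU hWa hW, ← funext hb']
  have h1 := (φ ⟨W, hWa⟩).symm.bijective.comp (FundLocal.bijective_smul_ιMulti b')
  have he : (fun c : Γ(X, W) => c • wedge φ hWa ⇑b') =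
      fun c => (φ ⟨W, hWa⟩).symm (c • exteriorPower.ιMulti _ n ⇑b') :=
    funext fun c => ((φ ⟨W, hWa⟩).symm.map_smul c _).symm
  rw [he]
  exact h1

end Groth.Agent.AdjForm
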