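import Groth.Agent.AdjForm.Frame
import Groth.Agent.AdjForm.Inj
import Groth.Agent.AdjForm.Wedge
import Mathlib.LinearAlgebra.Matrix.InvariantBasisNumber
import Mathlib.LinearAlgebra.InvariantBasisNumber
import Mathlib.RingTheory.Finiteness.Ideal

/-!
# Charts for the adjunction formula
-/

set_option autoImplicit false
set_option linter.style.haveILetI false
set_option linter.unusedSectionVars false

universe u

open CategoryTheory Opposite AlgebraicGeometry TopologicalSpace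

namespace Groth.Agent.AdjForm

variable {S P X : Scheme.{u}} (g : P ⟶ S) (f : X ⟶ S) [QuasiSeparated g] [QuasiSeparated f]
  (ι : X ⟶ P) [IsClosedImmersion ι] (hι : ι ≫ g = f) (n r c : ℕ)

/-- An affine open with bases adapted to the subscheme. -/
structure Chart (W : P.Opens) where
  aff : IsAffineOpen W
  V : S.Opens
  hV : IsAffineOpen V
  hWV : W ≤ g ⁻¹ᵁ V
  gd : FundLocal.Good ι c W
  p : Module.Basis (Fin n) Γ(P, W) Γ(Omega.sheaf g, W)
  e : Fin r → Γ(Omega.sheaf g, W)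
  q : Module.Basis (Fin r) Γ(X, ι ⁻¹ᵁ W) Γ(Omega.sheaf f, ι ⁻¹ᵁ W)
  hq : ∀ i, q i = pi g f ι hι W (e i)

variable {g f ι hι n r c}

/-- Charts restrict. -/
theorem Chart.exists_res {W W' : P.Opens} (C : Chart g f ι hι n r c W) (hW' : IsAffineOpen W') (h : W' ≤ W) :
    ∃ C' : Chart g f ι hι n r c W', C'.gd = C.gd.res hW' h ∧
      (∀ i, C'.e i = (Omega.sheaf g).presheaf.map (homOfLE h).op (C.e i)) := by
  haveI := ConormalSection.omega_isQuasicoherent g
  haveI := ConormalSection.omega_isQuasicoherent f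
  obtain ⟨p', -⟩ := exists_basis_res (Omega.sheaf g) C.aff C.p h
  obtain ⟨q', hq'⟩ := exists_basis_res (Omega.sheaf f) (C.aff.preimage ι) C.q (ι.preimage_mono h)
  exact ⟨⟨hW', C.V, C.hV, h.trans C.hWV, C.gd.res hW' h, p', fun i => (Omega.sheaf g).presheaf.map (homOfLE h).op (C.e i), q',
    fun i => by rw [hq', C.hq, pi_res]⟩, rfl, fun i => rfl⟩

variable (g f ι hι n r c) in
/-- Charts exist around every point of the subscheme. -/
theorem exists_chart [SmoothOfRelativeDimension n g] [SmoothOfRelativeDimension r f]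
    (hreg : RegImm.IsRegularImmersionOfCodim RegImm.Kind.regular c ι) (x : X) (O : P.Opens) (hx : ι x ∈ O) :
    ∃ W : P.Opens, ι x ∈ W ∧ W ≤ O ∧ Nonempty (Chart g f ι hι n r c W) := by
  obtain ⟨W₁, hxW₁, hW₁O, -, hgood⟩ := FundLocal.exists_good hreg O (ι x) hx
  obtain ⟨gd⟩ : Nonempty (FundLocal.Good ι c W₁) := hgood.resolve_right fun h => by
    exact (h.le (show x ∈ ι ⁻¹ᵁ W₁ from hxW₁) : x ∈ (⊥ : X.Opens))
  obtain ⟨W₂, hxW₂, hW₂₁, hW₂, ⟨V, hV, hW₂V⟩, ⟨p⟩⟩ := exists_frame g n (ι x) W₁ hxW₁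
  obtain ⟨U, hxU, hUW₂, hU, -, ⟨q⟩⟩ := exists_frame f r x (ι ⁻¹ᵁ W₂) hxW₂
  obtain ⟨U₀, hU₀, hU₀eq⟩ := ι.isClosedEmbedding.isInducing.isOpen_iff.1 U.2
  obtain ⟨W, hW, hxW, hWle⟩ := exists_isAffineOpen_mem_and_subset (U := (⟨U₀, hU₀⟩ : P.Opens) ⊓ W₂)
    (show ι x ∈ (⟨U₀, hU₀⟩ : P.Opens) ⊓ W₂ from ⟨(hU₀eq.symm.le hxU : x ∈ ι ⁻¹' U₀), hxW₂⟩)
  have hWW₂ : W ≤ W₂ := fun z hz => (hWle hz).2
  have hWU : ι ⁻¹ᵁ W ≤ U := fun z hz => hU₀eq.le (hWle hz).1
  haveI := ConormalSection.omega_isQuasicoherent g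
  haveI := ConormalSection.omega_isQuasicoherent f
  obtain ⟨p', -⟩ := exists_basis_res (Omega.sheaf g) hW₂ p hWW₂
  obtain ⟨q', -⟩ := exists_basis_res (Omega.sheaf f) hU q hWU
  choose e he using fun i => pi_surjective g f ι hι hW hV (hWW₂.trans hW₂V) (q' i)
  exact ⟨W, hxW, fun z hz => hW₁O (hW₂₁ (hWW₂ hz)), ⟨⟨hW, V, hV, hWW₂.trans hW₂V,
    gd.res hW (hWW₂.trans hW₂₁), p', e, q', fun i => (he i).symm⟩⟩⟩

/-- `I Ω`. -/
noncomputable abbrev ideSub (g : P ⟶ S) (ι : X ⟶ P) (W : P.Opens) : Submodule Γ(P, W) Γ(Omega.sheaf g, W) :=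
  FundLocal.vanI ι W • ⊤

variable {W : P.Opens} (C : Chart g f ι hι n r c W)

/-- The differentials of the equations. -/
noncomputable def Chart.u (j : Fin c) : Γ(Omega.sheaf g, W) := OmegaSh.dSect g W (C.gd.f j : Γ(P, W))

/-- The adapted family. -/
noncomputable def Chart.v : Fin c ⊕ Fin r → Γ(Omega.sheaf g, W) := Sum.elim C.u C.e

omit [IsClosedImmersion ι] in
lemma dSect_sum {α : Type*} (s : Finset α) (a : α → Γ(P, W)) :
    OmegaSh.dSect g W (∑ i ∈ s, a i) = ∑ i ∈ s, OmegaSh.dSect g W (a i) :=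
  map_sum (AddMonoidHom.mk' (OmegaSh.dSect g W) (OmegaSh.dSect_add g W)) a s

lemma dSect_comb_sub (a : Fin c → Γ(P, W)) :
    OmegaSh.dSect g W (∑ j, a j * (C.gd.f j : Γ(P, W))) - ∑ j, a j • C.u j ∈ ideSub g ι W := by
  rw [dSect_sum, ← Finset.sum_sub_distrib]
  refine Submodule.sum_mem _ fun j _ => ?_
  rw [OmegaSh.dSect_mul, Chart.u, add_sub_cancel_left]
  exact Submodule.smul_mem_smul (C.gd.f j).2 trivial

lemma exists_comb {a : Γ(P, W)} (ha : a ∈ FundLocal.vanI ι W) :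
    ∃ b : Fin c → Γ(P, W), ∑ j, b j * (C.gd.f j : Γ(P, W)) = a := by
  rw [← C.gd.span] at ha
  exact Ideal.mem_span_range_iff_exists_fun.1 ha

lemma kerSub_le : kerSub g ι W ≤ Submodule.span Γ(P, W) (Set.range C.u) ⊔ ideSub g ι W := by
  refine sup_le (Submodule.span_le.2 ?_) le_sup_right
  rintro _ ⟨a, ha, rfl⟩
  obtain ⟨b, rfl⟩ := exists_comb C ha
  rw [SetLike.mem_coe, ← sub_add_cancel (OmegaSh.dSect g W (∑ j, b j * (C.gd.f j : Γ(P, W)))) (∑ j, b j • C.u j)]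
  refine add_mem (Submodule.mem_sup_right (dSect_comb_sub C b)) (Submodule.mem_sup_left ?_)
  exact Submodule.sum_mem _ fun j _ => Submodule.smul_mem _ _ (Submodule.subset_span ⟨j, rfl⟩)

include hι in
lemma pi_u (j : Fin c) : pi g f ι hι W (C.u j) = 0 := by
  rw [Chart.u, pi_d, show ι.app W (C.gd.f j : Γ(P, W)) = 0 from (C.gd.f j).2]
  have h := OmegaSh.dSect_add f (ι ⁻¹ᵁ W) 0 0
  rw [add_zero, left_eq_add] at h
  exact h

lemma pi_ideSub {z : Γ(Omega.sheaf g, W)} (hz : z ∈ ideSub g ι W) : pi g f ι hι W z = 0 := by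
  refine Submodule.smul_induction_on (p := fun z => pi g f ι hι W z = 0) hz (fun a ha w _ => ?_)
    fun z z' h h' => by rw [pi_add, h, h', add_zero]
  rw [pi_smul]
  exact (congrArg (fun t : Γ(X, ι ⁻¹ᵁ W) => t • pi g f ι hι W w) ha).trans (zero_smul _ _)

/-- Modulo `I Ω` the adapted family spans. -/
theorem exists_decomp (z : Γ(Omega.sheaf g, W)) :
    ∃ a : Fin c ⊕ Fin r → Γ(P, W), z - ∑ k, a k • C.v k ∈ ideSub g ι W := by
  choose b hb using fun i => app_surjective ι C.aff (C.q.repr (pi g f ι hι W z) i)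
  have hker : z - ∑ i, b i • C.e i ∈ kerSub g ι W := by
    refine mem_kerSub_of_pi_eq_zero g f ι hι C.aff C.hV C.hWV _ ?_
    have h1 : pi g f ι hι W (∑ i, b i • C.e i) = pi g f ι hι W z := by
      rw [pi_sum]
      refine Eq.trans (Finset.sum_congr rfl fun i _ => ?_) (C.q.sum_repr _)
      rw [pi_smul, C.hq]
      exact congrArg (fun t : Γ(X, ι ⁻¹ᵁ W) => t • pi g f ι hι W (C.e i)) (hb i)
    have h2 := pi_add g f ι hι W (z - ∑ i, b i • C.e i) (∑ i, b i • C.e i)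
    rw [sub_add_cancel, h1, right_eq_add] at h2
    exact h2
  obtain ⟨y, hy, w, hw, hyw⟩ := Submodule.mem_sup.1 (kerSub_le C hker)
  obtain ⟨a, rfl⟩ := (Submodule.mem_span_range_iff_exists_fun _).1 hy
  refine ⟨Sum.elim a b, ?_⟩
  rw [Fintype.sum_sum_type]
  simp only [Chart.v, Sum.elim_inl, Sum.elim_inr]
  rwa [← sub_sub, sub_right_comm, ← hyw, add_sub_cancel_left]

/-- Modulo `I` the adapted family is independent. -/
theorem mem_vanI_of_comb [Smooth g] [Smooth f] (a : Fin c ⊕ Fin r → Γ(P, W))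
    (h : ∑ k, a k • C.v k ∈ ideSub g ι W) : ∀ k, a k ∈ FundLocal.vanI ι W := by
  rw [Fintype.sum_sum_type] at h
  simp only [Chart.v, Sum.elim_inl, Sum.elim_inr] at h
  have hr : ∀ i, a (Sum.inr i) ∈ FundLocal.vanI ι W := by
    have h1 := pi_ideSub (hι := hι) h
    rw [pi_add, pi_sum, pi_sum, Finset.sum_eq_zero fun j _ => by rw [pi_smul, pi_u]; exact smul_zero _, zero_add] at h1
    have h2 : ∑ i, (show Γ(X, ι ⁻¹ᵁ W) from ι.app W (a (Sum.inr i))) • C.q i = 0 := by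
      refine Eq.trans (Finset.sum_congr rfl fun i _ => ?_) h1
      rw [pi_smul, C.hq]
    exact fun i => Fintype.linearIndependent_iff.1 C.q.linearIndependent _ h2 i
  have h3 : ∑ j, a (Sum.inl j) • C.u j ∈ ideSub g ι W := by
    rw [← add_sub_cancel_right (∑ j, a (Sum.inl j) • C.u j) (∑ i, a (Sum.inr i) • C.e i)]
    exact sub_mem h (Submodule.sum_mem _ fun i _ => Submodule.smul_mem_smul (hr i) trivial)
  let A := ∑ j, a (Sum.inl j) * (C.gd.f j : Γ(P, W))
  have hA : A ∈ FundLocal.vanI ι W := Submodule.sum_mem _ fun j _ => Ideal.mul_mem_left _ _ (C.gd.f j).2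
  have hAd : OmegaSh.dSect g W A ∈ ideSub g ι W := by
    rw [← sub_add_cancel (OmegaSh.dSect g W A) (∑ j, a (Sum.inl j) • C.u j)]
    exact add_mem (dSect_comb_sub C _) h3
  have hsq := mem_sq_of_dSect_mem g f ι hι C.aff C.hV C.hWV A hA hAd
  have hcls : ∀ y : Γ(P, W), y ∈ FundLocal.vanI ι W * FundLocal.vanI ι W →
      ∀ hy : y ∈ FundLocal.vanI ι W, FundLocal.cls ι C.aff ⟨y, hy⟩ = 0 := by
    intro y hy
    refine Submodule.mul_induction_on' (C := fun y _ => ∀ hy : y ∈ FundLocal.vanI ι W, FundLocal.cls ι C.aff ⟨y, hy⟩ = 0)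
      (fun m hm m' hm' _ => ?_) (fun m hm m' hm' h h' _ => ?_) hy
    · refine Eq.trans ?_ ((FundLocal.cls_smul ι C.aff m ⟨m', hm'⟩).trans ?_)
      · rfl
      · exact (congrArg (fun t : Γ(X, ι ⁻¹ᵁ W) => t • FundLocal.cls ι C.aff ⟨m', hm'⟩) hm).trans (zero_smul _ _)
    · have hm0 : m ∈ FundLocal.vanI ι W := Ideal.mul_le_left hm
      have hm1 : m' ∈ FundLocal.vanI ι W := Ideal.mul_le_left hm'
      refine (FundLocal.cls_add ι C.aff ⟨m, hm0⟩ ⟨m', hm1⟩).trans ?_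
      rw [h hm0, h' hm1, add_zero]
  obtain ⟨b, hb⟩ := FundLocal.exists_basis_cls ι C.aff C.gd.f C.gd.reg C.gd.span
  have h4 : ∑ j, (show Γ(X, ι ⁻¹ᵁ W) from ι.app W (a (Sum.inl j))) • b j = 0 := by
    rw [← hcls A hsq hA, show (⟨A, hA⟩ : FundLocal.vanI ι W) = ∑ j, a (Sum.inl j) • C.gd.f j from
      Subtype.ext (by rw [AddSubmonoidClass.coe_finset_sum]; rfl)]
    refine Eq.trans (Finset.sum_congr rfl fun j _ => ?_) (map_sum (AddMonoidHom.mk' (FundLocal.cls ι C.aff)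
      (FundLocal.cls_add ι C.aff)) _ _).symm
    show _ = FundLocal.cls ι C.aff (a (Sum.inl j) • C.gd.f j)
    rw [FundLocal.cls_smul, hb]
  intro k
  rcases k with j | i
  · exact Fintype.linearIndependent_iff.1 b.linearIndependent _ h4 j
  · exact hr i

lemma repr_mem_of_mem_ideSub {z : Γ(Omega.sheaf g, W)} (hz : z ∈ ideSub g ι W) (l : Fin n) :
    C.p.repr z l ∈ FundLocal.vanI ι W := by
  refine Submodule.smul_induction_on (p := fun z => C.p.repr z l ∈ FundLocal.vanI ι W) hz (fun a ha w _ => ?_)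
    fun z z' h h' => by rw [map_add, Finsupp.add_apply]; exact add_mem h h'
  rw [map_smul, Finsupp.smul_apply, smul_eq_mul]
  exact Ideal.mul_mem_right _ _ ha

include C in
/-- Codimension plus dimension is the ambient dimension. -/
theorem Chart.dim_eq [Smooth g] [Smooth f] (x : X) (hx : ι x ∈ W) : c + r = n := by
  haveI : Nonempty (ι ⁻¹ᵁ W : X.Opens) := ⟨⟨x, hx⟩⟩
  choose M hM using fun i => exists_decomp C (C.p i)
  let φ : Γ(P, W) →+* Γ(X, ι ⁻¹ᵁ W) := (ι.app W).hom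
  let Cm : Matrix (Fin n) (Fin c ⊕ Fin r) Γ(P, W) := Matrix.of fun i k => M i k
  let Dm : Matrix (Fin c ⊕ Fin r) (Fin n) Γ(P, W) := Matrix.of fun k i => C.p.repr (C.v k) i
  have hCD : Cm.map φ * Dm.map φ = 1 := by
    rw [← Matrix.map_mul]
    ext i l
    have h1 := repr_mem_of_mem_ideSub C (hM i) l
    rw [map_sub, map_sum, Finsupp.sub_apply, Finsupp.coe_finset_sum, Finset.sum_apply, C.p.repr_self] at h1
    simp only [map_smul, Finsupp.smul_apply, smul_eq_mul] at h1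
    have h2 : φ (Finsupp.single i (1 : Γ(P, W)) l) = φ ((Cm * Dm) i l) := by
      rw [← sub_eq_zero, ← map_sub]
      exact h1
    rw [Matrix.map_apply, ← h2, Matrix.one_apply, Finsupp.single_apply]
    split_ifs <;> simp
  have hDC : Dm.map φ * Cm.map φ = 1 := by
    rw [← Matrix.map_mul]
    ext k l
    have h1 : ∑ l, ((Pi.single k 1 : Fin c ⊕ Fin r → Γ(P, W)) l - (Dm * Cm) k l) • C.v l ∈ ideSub g ι W := by
      have h2 : C.v k - ∑ l, (Dm * Cm) k l • C.v l ∈ ideSub g ι W := by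
        have h3 : C.v k - ∑ l, (Dm * Cm) k l • C.v l = ∑ i, C.p.repr (C.v k) i • (C.p i - ∑ l, M i l • C.v l) := by
          simp only [smul_sub, Finset.sum_sub_distrib, C.p.sum_repr, Finset.smul_sum, smul_smul]
          congr 1
          rw [Finset.sum_comm]
          refine Finset.sum_congr rfl fun l _ => ?_
          rw [← Finset.sum_smul]
          rfl
        rw [h3]
        exact Submodule.sum_mem _ fun i _ => Submodule.smul_mem _ _ (hM i)
      simp only [sub_smul, Finset.sum_sub_distrib]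
      rwa [show ∑ l, (Pi.single k 1 : Fin c ⊕ Fin r → Γ(P, W)) l • C.v l = C.v k by
        simp [Pi.single_apply]]
    have h4 : φ ((Pi.single k 1 : Fin c ⊕ Fin r → Γ(P, W)) l) = φ ((Dm * Cm) k l) := by
      rw [← sub_eq_zero, ← map_sub]
      exact mem_vanI_of_comb C _ h1 l
    rw [Matrix.map_apply, ← h4, Matrix.one_apply, Pi.single_apply]
    simp only [@eq_comm _ l k]
    split_ifs <;> simp
  have := Matrix.square_of_invertible _ _ hDC hCD
  simpa using this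

end Groth.Agent.AdjForm
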