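import Groth.Agent.AdjForm.Alg
import Mathlib.LinearAlgebra.Alternating.Uncurry.Fin
import Mathlib.LinearAlgebra.Basis.Fin

/-!
# The Euler form
-/

set_option autoImplicit false

namespace Groth.Agent.AdjForm

variable {R M N : Type*} [CommRing R] [AddCommGroup M] [Module R M] [AddCommGroup N] [Module R N] {n : ℕ}
  (w : M [⋀^Fin n]→ₗ[R] N)

/-- `Σ (-1)^l c_l · w(m_0, …, m̂_l, …, m_n)` on pairs `(c_l, m_l)`. -/
noncomputable def euler : (R × M) [⋀^Fin (n + 1)]→ₗ[R] N :=
  AlternatingMap.alternatizeUncurryFin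
    ((LinearMap.toSpanSingleton R ((R × M) [⋀^Fin n]→ₗ[R] N) (w.compLinearMap (LinearMap.snd R R M))).comp
      (LinearMap.fst R R M))

theorem euler_apply (v : Fin (n + 1) → R × M) :
    euler w v = ∑ i : Fin (n + 1), (-1) ^ (i : ℕ) • ((v i).1 • w fun j => (v (i.succAbove j)).2) := by
  rw [euler, AlternatingMap.alternatizeUncurryFin_apply]
  rfl

/-- If one coefficient is one and its vector zero only that term remains. -/
theorem euler_chart (c : Fin (n + 1) → R) (m : Fin (n + 1) → M) (i : Fin (n + 1)) (hc : c i = 1) (hm : m i = 0) :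
    euler w (fun l => (c l, m l)) = (-1) ^ (i : ℕ) • w fun j => m (i.succAbove j) := by
  rw [euler_apply, Finset.sum_eq_single i]
  · simp [hc]
  · intro l _ hl
    obtain ⟨j, hj⟩ := Fin.exists_succAbove_eq (Ne.symm hl)
    rw [w.map_coord_zero (m := fun j => m (l.succAbove j)) j (by rw [hj]; exact hm), smul_zero, smul_zero]
  · simp

/-- Rescaling. -/
theorem euler_scale (b : Module.Basis (Fin n) R M) (u : R) (m₀ : M) (w₀ : M) (hw : u • w₀ = m₀)
    (c : Fin (n + 1) → R) (m : Fin (n + 1) → M) :
    euler w (fun l => (u * c l, u • m l + c l • m₀)) = u ^ (n + 1) • euler w (fun l => (c l, m l)) := by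
  classical
  let e : Fin (n + 1) → R × M := Fin.cons (1, 0) fun j => (0, b j)
  let e' : Fin (n + 1) → R × M := Function.update e 0 ((1, 0) + (0, w₀))
  let A : Matrix (Fin (n + 1)) (Fin (n + 1)) R := Matrix.of fun l => Fin.cons (c l) fun j => b.repr (m l) j
  have h1 : ∀ l, (c l, m l) = ∑ j, A l j • e j := fun l => by
    rw [Fin.sum_univ_succ]
    simp only [A, e, Matrix.of_apply, Fin.cons_zero, Fin.cons_succ]
    refine Prod.ext ?_ ?_
    · simp [Prod.fst_sum]
    · simp [Prod.snd_sum, b.sum_repr]
  have h2 : ∀ l, (c l, m l + c l • w₀) = ∑ j, A l j • e' j := fun l => by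
    rw [Fin.sum_univ_succ]
    simp only [A, e', Matrix.of_apply, Fin.cons_zero, Function.update_self]
    have : ∀ j : Fin n, (Function.update e 0 ((1, 0) + (0, w₀)) j.succ) = (0, b j) := fun j => by
      rw [Function.update_of_ne (Fin.succ_ne_zero j)]
      simp [e]
    simp only [this, Fin.cons_succ]
    refine Prod.ext ?_ ?_
    · simp [Prod.fst_sum]
    · simp [Prod.snd_sum, b.sum_repr, add_comm]
  have h3 : euler w e' = euler w e := by
    rw [AlternatingMap.map_update_add, show Function.update e 0 (1, 0) = e from by simp [e]]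
    refine (add_eq_left).2 ?_
    rw [euler_apply]
    refine Finset.sum_eq_zero fun l _ => ?_
    rcases Fin.eq_zero_or_eq_succ l with rfl | ⟨j, rfl⟩
    · simp
    · rw [Function.update_of_ne (Fin.succ_ne_zero j)]
      simp [e]
  have h4 : euler w (fun l => (c l, m l + c l • w₀)) = euler w (fun l => (c l, m l)) := by
    rw [funext h1, funext h2, map_sum_smul, map_sum_smul, h3]
  rw [show (fun l => (u * c l, u • m l + c l • m₀)) = fun l => u • ((c l, m l + c l • w₀) : R × M) from funext fun l => by
    rw [Prod.smul_mk, smul_eq_mul, smul_add, smul_comm u (c l), hw]]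
  rw [(euler w).map_smul_univ (fun _ => u) fun l => (c l, m l + c l • w₀), h4, Finset.prod_const, Finset.card_univ,
    Fintype.card_fin]

end Groth.Agent.AdjForm
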