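import Groth.Agent.AdjForm.QBasis
import Groth.Agent.ConormalSection.OmegaAffine
import Groth.Agent.ConormalSection.Universal
import Mathlib.AlgebraicGeometry.Morphisms.Smooth
import Mathlib.RingTheory.Smooth.StandardSmoothCotangent

/-!
# Local frames of differentials of smooth morphisms
-/

set_option autoImplicit false
set_option linter.style.haveILetI false

universe u

open CategoryTheory Opposite AlgebraicGeometry TopologicalSpace

namespace Groth.Agent.AdjForm

variable {P S : Scheme.{u}} (g : P ⟶ S) (n : ℕ) [SmoothOfRelativeDimension n g] [QuasiSeparated g]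

/-- A standard smooth chart gives a frame; frames pass to all smaller opens. -/
theorem exists_frame (y : P) (O : P.Opens) (hy : y ∈ O) :
    ∃ W : P.Opens, y ∈ W ∧ W ≤ O ∧ IsAffineOpen W ∧ (∃ V : S.Opens, IsAffineOpen V ∧ W ≤ g ⁻¹ᵁ V) ∧
      Nonempty (Module.Basis (Fin n) Γ(P, W) Γ(Omega.sheaf g, W)) := by
  obtain ⟨V, hV, U, hU, hyU, h, hstd⟩ :=
    SmoothOfRelativeDimension.exists_isStandardSmoothOfRelativeDimension (n := n) (f := g) y
  obtain ⟨W, hW, hyW, hWO⟩ := exists_isAffineOpen_mem_and_subset (U := O ⊓ U) (show y ∈ O ⊓ U from ⟨hy, hyU⟩)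
  refine ⟨W, hyW, fun z hz => (hWO hz).1, hW, ⟨V, hV, fun z hz => h (hWO hz).2⟩, ?_⟩
  letI := (g.appLE V U h).hom.toAlgebra
  haveI : Algebra.IsStandardSmoothOfRelativeDimension n Γ(S, V) Γ(P, U) := hstd
  haveI := Algebra.IsStandardSmoothOfRelativeDimension.isStandardSmooth n (R := Γ(S, V)) (S := Γ(P, U))
  haveI : Nontrivial Γ(P, U) := by
    haveI : Nonempty U := ⟨⟨y, hyU⟩⟩
    infer_instance
  let b0 := Module.Free.chooseBasis Γ(P, U) (Ω[Γ(P, U)⁄Γ(S, V)])
  have hcard : Fintype.card (Module.Free.ChooseBasisIndex Γ(P, U) (Ω[Γ(P, U)⁄Γ(S, V)])) = n := by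
    have h1 := Algebra.IsStandardSmoothOfRelativeDimension.rank_kaehlerDifferential (R := Γ(S, V)) (S := Γ(P, U)) n
    rw [rank_eq_card_basis b0] at h1
    exact_mod_cast h1
  let e : (Ω[Γ(P, U)⁄Γ(S, V)]) ≃ₗ[Γ(P, U)] Γ(Omega.sheaf g, U) :=
    LinearEquiv.ofBijective (OmAff.toSect g V U h).hom (ConormalSection.bijective_toSect g hU hV h)
  let b : Module.Basis (Fin n) Γ(P, U) Γ(Omega.sheaf g, U) :=
    (b0.map e).reindex (Fintype.equivFinOfCardEq hcard)
  haveI := ConormalSection.omega_isQuasicoherent g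
  obtain ⟨b', -⟩ := exists_basis_res (Omega.sheaf g) hU b (show W ≤ U from fun z hz => (hWO hz).2)
  exact ⟨b'⟩

end Groth.Agent.AdjForm
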