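import Groth.Agent.AdjForm.Charts
import Groth.Agent.InvPow.Compose
import Groth.Agent.InvPow.LocalIso
import Groth.Agent.InvPow.Transfer
import Groth.Agent.ProjCoh.TensorSections

/-!
# The adjunction formula
-/

set_option autoImplicit false
set_option linter.style.haveILetI false
set_option linter.unusedSectionVars false
set_option maxHeartbeats 1000000

universe u

open CategoryTheory Opposite AlgebraicGeometry TopologicalSpace

namespace Groth.Agent.AdjForm

open ProjUniv InvBasic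

lemma isBasis_of_smul {X : Scheme.{u}} {M : X.Modules} {U : X.Opens} {b ℓ : Γ(M, U)} (hℓ : IsBasis M ℓ) {a d : Γ(X, U)}
    (h1 : ℓ = a • b) (h2 : b = d • ℓ) : IsBasis M b := by
  have hda : a * d = 1 := InvPow.coef_unique hℓ (by rw [_root_.one_smul, ← smul_smul, ← h2, ← h1])
  intro W hW
  let φ := (X.presheaf.map (homOfLE hW).op).hom
  have e : (fun t : Γ(X, W) => t • (M.presheaf.map (homOfLE hW).op b : Γ(M, W))) =
      (fun t => t • (M.presheaf.map (homOfLE hW).op ℓ : Γ(M, W))) ∘ fun t => t * φ d := by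
    funext t
    show t • _ = (t * φ d) • _
    rw [h2, Scheme.Modules.map_smul, smul_smul]
  rw [e]
  exact (hℓ W hW).comp ((IsUnit.of_mul_eq_one_right _ (show φ a * φ d = 1 by rw [← map_mul, hda, map_one])).unit.mulRight.bijective)

variable {S P X : Scheme.{u}} {g : P ⟶ S} {f : X ⟶ S} [QuasiSeparated g] [QuasiSeparated f]
  {ι : X ⟶ P} [IsClosedImmersion ι] {hι : ι ≫ g = f} {n r c : ℕ}
  {ωP : P.Modules} (φP : ∀ U : P.affineOpens, (ωP.val.obj (op U.1)) ≃ₗ[Γ(P, U.1)] ↥(⋀[Γ(P, U.1)]^n ((Omega.sheaf g).val.obj (op U.1))))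
  {ωX : X.Modules} (φX : ∀ U : X.affineOpens, (ωX.val.obj (op U.1)) ≃ₗ[Γ(X, U.1)] ↥(⋀[Γ(X, U.1)]^r ((Omega.sheaf f).val.obj (op U.1))))
  {L : X.Modules} (φL : ∀ U : X.affineOpens, (L.val.obj (op U.1)) ≃ₗ[Γ(X, U.1)] ↥(⋀[Γ(X, U.1)]^c ((Omega.conormal ι).val.obj (op U.1))))
  (hφP : ∀ (U V : P.affineOpens) (h : V.1 ≤ U.1) (e : Fin n → (Omega.sheaf g).val.obj (op U.1)),
      ωP.val.map (homOfLE h).op ((φP U).symm (exteriorPower.ιMulti _ n e)) =
        (φP V).symm (exteriorPower.ιMulti _ n (fun j => (Omega.sheaf g).val.map (homOfLE h).op (e j))))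
  (hφX : ∀ (U V : X.affineOpens) (h : V.1 ≤ U.1) (e : Fin r → (Omega.sheaf f).val.obj (op U.1)),
      ωX.val.map (homOfLE h).op ((φX U).symm (exteriorPower.ιMulti _ r e)) =
        (φX V).symm (exteriorPower.ιMulti _ r (fun j => (Omega.sheaf f).val.map (homOfLE h).op (e j))))
  (hφL : ∀ (U V : X.affineOpens) (h : V.1 ≤ U.1) (e : Fin c → (Omega.conormal ι).val.obj (op U.1)),
      L.val.map (homOfLE h).op ((φL U).symm (exteriorPower.ιMulti _ c e)) =
        (φL V).symm (exteriorPower.ιMulti _ c (fun j => (Omega.conormal ι).val.map (homOfLE h).op (e j))))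
  (σ : Fin n ≃ Fin c ⊕ Fin r)

variable (ι) in
/-- Pulling sections back, linearly. -/
noncomputable def pullLin (W : P.Opens) : Γ(ωP, W) →ₗ[Γ(P, W)]
    Γ((Scheme.Modules.pushforward ι).obj ((Scheme.Modules.pullback ι).obj ωP), W) where
  toFun := ((Scheme.Modules.pullbackPushforwardAdjunction ι).unit.app ωP).app W
  map_add' x y := map_add _ x y
  map_smul' a x := Scheme.Modules.Hom.app_smul _ a x

variable (ι) in
/-- The pulled back wedge. -/
noncomputable def wedgePull {W : P.Opens} (hW : IsAffineOpen W) : Γ(Omega.sheaf g, W) [⋀^(Fin c ⊕ Fin r)]→ₗ[Γ(P, W)]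
    Γ((Scheme.Modules.pushforward ι).obj ((Scheme.Modules.pullback ι).obj ωP), W) :=
  ((pullLin ι W).compAlternatingMap (wedge φP hW)).domDomCongr σ

variable {W : P.Opens} (C : Chart g f ι hι n r c W)

/-- The section of `ι^* ω_P` of a chart. -/
noncomputable def Chart.b : Γ((Scheme.Modules.pullback ι).obj ωP, ι ⁻¹ᵁ W) := wedgePull ι φP σ C.aff C.v

/-- The section of `ω_X ⊗ L` of a chart. -/
noncomputable def Chart.a : Γ(CohB1.tensorMod ωX L, ι ⁻¹ᵁ W) :=
  SecTwist.tmul ωX L (ι ⁻¹ᵁ W) (wedge φX (C.aff.preimage ι) fun i => pi g f ι hι W (C.e i))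
    (FundLocal.omega ι φL C.aff C.gd.f)

lemma wedgePull_eq_zero {hW : IsAffineOpen W} (v : Fin c ⊕ Fin r → Γ(Omega.sheaf g, W)) (i : Fin c ⊕ Fin r)
    (h : v i ∈ ideSub g ι W) : wedgePull ι φP σ hW v = 0 := by
  classical
  rw [← Function.update_eq_self i v]
  refine Submodule.smul_induction_on (p := fun z => wedgePull ι φP σ hW (Function.update v i z) = 0) h (fun a ha w _ => ?_)
    fun z z' h h' => by rw [AlternatingMap.map_update_add, h, h', add_zero]
  rw [AlternatingMap.map_update_smul]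
  show (show Γ(X, ι ⁻¹ᵁ W) from ι.app W a) • (show Γ((Scheme.Modules.pullback ι).obj ωP, ι ⁻¹ᵁ W) from _) = 0
  exact (congrArg (fun t : Γ(X, ι ⁻¹ᵁ W) =>
    t • (show Γ((Scheme.Modules.pullback ι).obj ωP, ι ⁻¹ᵁ W) from _)) ha).trans (zero_smul _ _)

include hφP in
lemma isInvertible_omegaP [SmoothOfRelativeDimension n g] : PicF.IsInvertible ωP := by
  haveI := ConormalSection.omega_isQuasicoherent g
  refine InvBasic.isInvertible_of_isBasis fun y => ?_
  obtain ⟨W, hyW, -, hW, -, ⟨p⟩⟩ := exists_frame g n y ⊤ trivial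
  exact ⟨W, hyW, _, isBasis_wedge φP hφP hW p⟩

include hφP in
theorem isBasis_b [SmoothOfRelativeDimension n g] : IsBasis ((Scheme.Modules.pullback ι).obj ωP) (C.b φP σ) := by
  haveI := ConormalSection.omega_isQuasicoherent g
  have hb0 := InvPow.isBasis_pullLoc ι (isInvertible_omegaP φP hφP) (isBasis_wedge φP hφP C.aff C.p)
  choose M hM using fun k => exists_decomp C (C.p (σ.symm k))
  have h1 : wedgePull ι φP σ C.aff (fun k => C.p (σ.symm k)) =
      InvPow.pullLoc ι ωP (wedge φP C.aff ⇑C.p) := by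
    show (pullLin ι W) (wedge φP C.aff fun i => C.p (σ.symm (σ i))) = _
    simp only [Equiv.symm_apply_apply]
    rfl
  have h2 : wedgePull ι φP σ C.aff (fun k => C.p (σ.symm k)) =
      (Matrix.of M).det • wedgePull ι φP σ C.aff C.v := by
    refine (map_congr_mod _ (ideSub g ι W) (fun v i hv => wedgePull_eq_zero φP σ v i hv) _ _ hM).trans ?_
    exact map_sum_smul _ (Matrix.of M) C.v
  obtain ⟨d, hd⟩ := InvPow.exists_coef hb0 (C.b φP σ)
  refine isBasis_of_smul hb0 (a := (show Γ(X, ι ⁻¹ᵁ W) from ι.app W (Matrix.of M).det)) ?_ hd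
  exact h1.symm.trans h2

include hφX hφL in
theorem isBasis_a : IsBasis (CohB1.tensorMod ωX L) (C.a φX φL) := by
  haveI := ConormalSection.omega_isQuasicoherent f
  refine InvPow.isBasis_tmul ?_ ?_
  · rw [show (fun i => pi g f ι hι W (C.e i)) = ⇑C.q from funext fun i => (C.hq i).symm]
    exact isBasis_wedge φX hφX (C.aff.preimage ι) C.q
  · intro W' hW'
    have hb := FundLocal.isBasis_omega φL hφL C.gd W' (homOfLE hW')
    constructor
    · intro a b hab
      have := hb.1 (a₁ := fun _ => a) (a₂ := fun _ => b) (by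
        simp only [Fintype.linearCombination_apply, Fin.sum_univ_one]
        exact hab)
      exact congrFun this 0
    · intro y
      obtain ⟨t, ht⟩ := hb.2 y
      simp only [Fintype.linearCombination_apply, Fin.sum_univ_one] at ht
      exact ⟨t 0, ht⟩

/-- Two charts on the same open transform both families by the same factor. -/
theorem exists_factor (C' : Chart g f ι hι n r c W) :
    ∃ t : Γ(X, ι ⁻¹ᵁ W), C'.a φX φL = t • C.a φX φL ∧ C'.b φP σ = t • C.b φP σ := by
  classical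
  choose A hA using fun j => exists_comb C (C'.gd.f j).2
  choose B hB using fun i k => app_surjective ι C.aff (C.q.repr (C'.q i) k)
  have hu : ∀ j, C'.u j - ∑ k, A j k • C.u k ∈ ideSub g ι W := fun j => by
    rw [show C'.u j = OmegaSh.dSect g W (∑ k, A j k * (C.gd.f k : Γ(P, W))) by rw [hA j]; rfl]
    exact dSect_comb_sub C (A j)
  have he : ∀ i, C'.e i - ∑ k, B i k • C.e k ∈ Submodule.span Γ(P, W) (Set.range C.u) ⊔ ideSub g ι W := fun i => by
    refine kerSub_le C (mem_kerSub_of_pi_eq_zero g f ι hι C.aff C.hV C.hWV _ ?_)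
    have h1 : pi g f ι hι W (∑ k, B i k • C.e k) = pi g f ι hι W (C'.e i) := by
      rw [pi_sum, ← C'.hq]
      refine Eq.trans (Finset.sum_congr rfl fun k _ => ?_) (C.q.sum_repr _)
      rw [pi_smul, C.hq]
      exact congrArg (fun t : Γ(X, ι ⁻¹ᵁ W) => t • pi g f ι hι W (C.e k)) (hB i k)
    have h2 := pi_add g f ι hι W (C'.e i - ∑ k, B i k • C.e k) (∑ k, B i k • C.e k)
    rw [sub_add_cancel, h1, right_eq_add] at h2
    exact h2
  let φ : Γ(P, W) →+* Γ(X, ι ⁻¹ᵁ W) := (ι.app W).hom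
  refine ⟨φ ((Matrix.of A).det * (Matrix.of B).det), ?_, ?_⟩
  · have h1 : wedge φX (C.aff.preimage ι) (fun i => pi g f ι hι W (C'.e i)) =
        φ (Matrix.of B).det • wedge φX (C.aff.preimage ι) (fun i => pi g f ι hι W (C.e i)) := by
      rw [RingHom.map_det, ← map_sum_smul]
      refine congrArg _ (funext fun i => ?_)
      rw [← C'.hq, ← C.q.sum_repr (C'.q i)]
      refine Finset.sum_congr rfl fun k _ => ?_
      rw [C.hq]
      exact congrArg (fun t : Γ(X, ι ⁻¹ᵁ W) => t • pi g f ι hι W (C.e k)) (hB i k).symm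
    have h2 : FundLocal.omega ι φL C'.aff C'.gd.f = φ (Matrix.of A).det • FundLocal.omega ι φL C.aff C.gd.f := by
      show wedge φL (C.aff.preimage ι) (fun j => FundLocal.cls ι C.aff (C'.gd.f j)) =
        φ (Matrix.of A).det • wedge φL (C.aff.preimage ι) (fun j => FundLocal.cls ι C.aff (C.gd.f j))
      rw [RingHom.map_det, ← map_sum_smul]
      refine congrArg _ (funext fun j => ?_)
      rw [show C'.gd.f j = ∑ k, A j k • C.gd.f k from
        Subtype.ext (by rw [AddSubmonoidClass.coe_finset_sum]; exact (hA j).symm)]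
      refine Eq.trans (map_sum (AddMonoidHom.mk' (FundLocal.cls ι C.aff) (FundLocal.cls_add ι C.aff)) _ _) ?_
      exact Finset.sum_congr rfl fun k _ => FundLocal.cls_smul ι C.aff _ _
    show SecTwist.tmul ωX L _ _ _ = _
    refine (congrArg₂ (SecTwist.tmul ωX L _) h1 h2).trans ?_
    refine (ProjCoh.tmul_smul_right ωX L _ _ _ _).trans ?_
    rw [smul_smul, map_mul]
    exact ProjCoh.tmul_smul_left ωX L _ _ _ _
  · exact map_block (wedgePull ι φP σ C.aff) (ideSub g ι W) (fun v i hv => wedgePull_eq_zero φP σ v i hv)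
      C.u C'.u C.e C'.e (Matrix.of A) (Matrix.of B) hu he

variable {W' : P.Opens}

include hφP in
lemma b_res (C' : Chart g f ι hι n r c W') (hW' : IsAffineOpen W') (h : W' ≤ W) (hgd : C'.gd = C.gd.res hW' h)
    (he : ∀ i, C'.e i = (Omega.sheaf g).presheaf.map (homOfLE h).op (C.e i)) :
    res ((Scheme.Modules.pullback ι).obj ωP) (ι.preimage_mono h) (C.b φP σ) = C'.b φP σ := by
  refine (InvPow.res_pullLoc ι ωP h (wedge φP C.aff fun i => C.v (σ i))).trans ?_
  refine congrArg (InvPow.pullLoc ι ωP) ((wedge_res φP hφP C.aff C'.aff h _).trans ?_)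
  refine congrArg _ (funext fun i => ?_)
  show _ = C'.v (σ i)
  rcases σ i with j | k
  · show (Omega.sheaf g).presheaf.map (homOfLE h).op (C.u j) = C'.u j
    rw [Chart.u, Chart.u, hgd]
    exact ConormalSection.dSect_res g h _
  · exact (he k).symm

include hφX hφL in
lemma a_res (C' : Chart g f ι hι n r c W') (hW' : IsAffineOpen W') (h : W' ≤ W) (hgd : C'.gd = C.gd.res hW' h)
    (he : ∀ i, C'.e i = (Omega.sheaf g).presheaf.map (homOfLE h).op (C.e i)) :
    res (CohB1.tensorMod ωX L) (ι.preimage_mono h) (C.a φX φL) = C'.a φX φL := by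
  refine (InvPow.res_tmul ωX L (ι.preimage_mono h) _ _).trans ?_
  refine congrArg₂ (SecTwist.tmul ωX L _) ?_ ?_
  · refine (wedge_res φX hφX _ (C'.aff.preimage ι) (ι.preimage_mono h) _).trans ?_
    refine congrArg _ (funext fun i => ?_)
    rw [he, pi_res]
  · refine (FundLocal.omega_res ι φL hφL C.aff C'.aff h _).trans ?_
    rw [hgd]
    rfl

/-- **The adjunction formula.** -/
theorem nonempty_iso (g : P ⟶ S) (f : X ⟶ S) (ι : X ⟶ P) [IsClosedImmersion ι] (hι : ι ≫ g = f) (n r c : ℕ)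
    [QuasiSeparated g] [QuasiSeparated f] [SmoothOfRelativeDimension n g] [SmoothOfRelativeDimension r f]
    (hreg : RegImm.IsRegularImmersionOfCodim RegImm.Kind.regular c ι)
    {ωP : P.Modules} (hωP : ExtPow.IsExtPow n (Omega.sheaf g) ωP)
    {ωX : X.Modules} (hωX : ExtPow.IsExtPow r (Omega.sheaf f) ωX)
    {L : X.Modules} (hL : ExtPow.IsExtPow c (Omega.conormal ι) L) :
    Nonempty ((Scheme.Modules.pullback ι).obj ωP ≅ CohB1.tensorMod ωX L) := by
  obtain ⟨φP, hφP⟩ := hωP
  obtain ⟨φX, hφX⟩ := hωX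
  obtain ⟨φL, hφL⟩ := hL
  haveI : Smooth g := SmoothOfRelativeDimension.smooth n g
  haveI : Smooth f := SmoothOfRelativeDimension.smooth r f
  choose W hxW _ hC using fun x => exists_chart g f ι hι n r c hreg x ⊤ trivial
  have C : ∀ x, Chart g f ι hι n r c (W x) := fun x => (hC x).some
  rcases isEmpty_or_nonempty X with hX | hX
  · exact InvPow.nonempty_iso_of_bases (V := fun x : X => (⊤ : X.Opens)) (fun x => isEmptyElim x)
      (a := fun x => isEmptyElim x) (b := fun x => isEmptyElim x) (fun x => isEmptyElim x)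
      (fun x => isEmptyElim x) (fun x => isEmptyElim x)
  obtain ⟨x₀⟩ := hX
  have hn := (C x₀).dim_eq x₀ (hxW x₀)
  let σ : Fin n ≃ Fin c ⊕ Fin r := (finCongr hn.symm).trans finSumFinEquiv.symm
  refine InvPow.nonempty_iso_of_bases (V := fun x : X => ι ⁻¹ᵁ W x) (fun x => ⟨x, hxW x⟩)
    (a := fun x => (C x).b φP σ) (b := fun x => (C x).a φX φL) (fun x => isBasis_b φP hφP σ (C x))
    (fun i j U hi hj t ht => ?_) (fun x => isBasis_a φX φL hφX hφL (C x))
  refine QCohLib.section_ext _ _ fun y hy => ?_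
  obtain ⟨U₀, hU₀, hU₀eq⟩ := ι.isClosedEmbedding.isInducing.isOpen_iff.1 U.2
  obtain ⟨W', hW', hyW', hW'le⟩ := exists_isAffineOpen_mem_and_subset (U := (⟨U₀, hU₀⟩ : P.Opens) ⊓ (W i ⊓ W j))
    (show ι y ∈ (⟨U₀, hU₀⟩ : P.Opens) ⊓ (W i ⊓ W j) from ⟨(hU₀eq.symm.le hy : y ∈ ι ⁻¹' U₀), hi hy, hj hy⟩)
  have hWi : W' ≤ W i := fun z hz => (hW'le hz).2.1
  have hWj : W' ≤ W j := fun z hz => (hW'le hz).2.2
  have hU' : ι ⁻¹ᵁ W' ≤ U := fun z hz => hU₀eq.le (hW'le hz).1
  rw [← TopCat.Presheaf.germ_res_apply _ (homOfLE hU') y hyW', ← TopCat.Presheaf.germ_res_apply _ (homOfLE hU') y hyW']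
  refine congrArg _ ?_
  obtain ⟨Ci, hgi, hei⟩ := (C i).exists_res hW' hWi
  obtain ⟨Cj, hgj, hej⟩ := (C j).exists_res hW' hWj
  obtain ⟨s, hsa, hsb⟩ := exists_factor φP φX φL σ Ci Cj
  have h1 := congrArg (res ((Scheme.Modules.pullback ι).obj ωP) hU') ht
  rw [res_smul, res_res, res_res] at h1
  rw [b_res φP hφP σ (C i) Ci hW' hWi hgi hei, b_res φP hφP σ (C j) Cj hW' hWj hgj hej] at h1
  have hts := InvPow.coef_unique (isBasis_b φP hφP σ Ci) (h1.symm.trans hsb)
  show res (CohB1.tensorMod ωX L) hU' _ = res (CohB1.tensorMod ωX L) hU' _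
  rw [res_smul, res_res, res_res]
  rw [a_res φX φL hφX hφL (C i) Ci hW' hWi hgi hei, a_res φX φL hφX hφL (C j) Cj hW' hWj hgj hej, hts]
  exact hsa

end Groth.Agent.AdjForm
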