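import Groth.Agent.ConormalSection.Universal
import Groth.Agent.FundLocal.Good
import Mathlib.RingTheory.Derivation.Basic

/-!
# The map from differentials of the ambient scheme to those of a closed subscheme
-/

set_option autoImplicit false
set_option linter.style.haveILetI false

universe u

open CategoryTheory Opposite AlgebraicGeometry TopologicalSpace

namespace Groth.Agent.AdjForm

variable {S P X : Scheme.{u}} (g : P ⟶ S) (f : X ⟶ S) [QuasiSeparated g] [QuasiSeparated f] (ι : X ⟶ P)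
  (hι : ι ≫ g = f)

include hι in
lemma dSect_app_app (V : S.Opens) (c : Γ(S, V)) :
    OmegaSh.dSect f (ι ⁻¹ᵁ (g ⁻¹ᵁ V)) (ι.app (g ⁻¹ᵁ V) (g.app V c)) = 0 := by
  subst hι
  exact OmegaSh.dSect_app (ι ≫ g) V c

/-- The derivation of the ambient scheme into the differentials of `X`. -/
noncomputable def derPush : OmegaSh.Der g ((Scheme.Modules.pushforward ι).obj (Omega.sheaf f)) where
  d {U} := AddMonoidHom.mk' (fun s => OmegaSh.dSect f (ι ⁻¹ᵁ U.unop) (ι.app U.unop s)) fun a b => by
    show OmegaSh.dSect f _ (ι.app U.unop (a + b)) = _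
    rw [map_add, OmegaSh.dSect_add]
    rfl
  d_mul {U} a b := by
    show OmegaSh.dSect f (ι ⁻¹ᵁ U.unop) (ι.app U.unop (a * b)) = _
    rw [map_mul, OmegaSh.dSect_mul]
    rfl
  d_map {U U'} i s := by
    show OmegaSh.dSect f (ι ⁻¹ᵁ U'.unop) (ι.app U'.unop (P.presheaf.map i s)) = _
    rw [show ι.app U'.unop (P.presheaf.map i s) =
      X.presheaf.map (homOfLE (ι.preimage_mono i.unop.le)).op (ι.app U.unop s) from
        ConcreteCategory.congr_hom (ι.naturality i) s]
    exact OmegaSh.dSect_map f (ι.preimage_mono i.unop.le) _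
  d_app {V} c := dSect_app_app g f ι hι V.unop c

/-- The map `Ω_{P/S} → ι_* Ω_{X/S}`. -/
noncomputable def piHom : Omega.sheaf g ⟶ (Scheme.Modules.pushforward ι).obj (Omega.sheaf f) :=
  (ConormalSection.isUniversal_dOmega g _ (derPush g f ι hι)).choose

/-- The map on sections, into the differentials of `X`. -/
noncomputable def pi (W : P.Opens) (z : Γ(Omega.sheaf g, W)) : Γ(Omega.sheaf f, ι ⁻¹ᵁ W) :=
  (piHom g f ι hι).app W z

lemma pi_d (W : P.Opens) (a : Γ(P, W)) :
    pi g f ι hι W (OmegaSh.dSect g W a) = OmegaSh.dSect f (ι ⁻¹ᵁ W) (ι.app W a) :=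
  PresheafOfModules.Derivation.congr_d
    (ConormalSection.isUniversal_dOmega g _ (derPush g f ι hι)).choose_spec.1 (X := op W) a

lemma pi_add (W : P.Opens) (z z' : Γ(Omega.sheaf g, W)) :
    pi g f ι hι W (z + z') = pi g f ι hι W z + pi g f ι hι W z' :=
  map_add ((piHom g f ι hι).app W).hom z z'

lemma pi_zero (W : P.Opens) : pi g f ι hι W 0 = 0 := map_zero ((piHom g f ι hι).app W).hom

lemma pi_smul (W : P.Opens) (a : Γ(P, W)) (z : Γ(Omega.sheaf g, W)) :
    pi g f ι hι W (a • z) = (show Γ(X, ι ⁻¹ᵁ W) from ι.app W a) • pi g f ι hι W z :=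
  Scheme.Modules.Hom.app_smul (piHom g f ι hι) a z

lemma pi_sum {α : Type*} (s : Finset α) (W : P.Opens) (z : α → Γ(Omega.sheaf g, W)) :
    pi g f ι hι W (∑ i ∈ s, z i) = ∑ i ∈ s, pi g f ι hι W (z i) :=
  map_sum ((piHom g f ι hι).app W).hom z s

lemma pi_res {W W' : P.Opens} (h : W' ≤ W) (z : Γ(Omega.sheaf g, W)) :
    pi g f ι hι W' ((Omega.sheaf g).presheaf.map (homOfLE h).op z) =
      (Omega.sheaf f).presheaf.map (homOfLE (ι.preimage_mono h)).op (pi g f ι hι W z) :=
  QCohLib.app_map (piHom g f ι hι) h z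

variable [IsClosedImmersion ι]

lemma app_surjective {W : P.Opens} (hW : IsAffineOpen W) : Function.Surjective (ι.app W) :=
  (isClosedImmersion_iff_isAffineHom.1 ‹IsClosedImmersion ι›).2 W hW

variable {W : P.Opens} (hW : IsAffineOpen W) {V : S.Opens} (hV : IsAffineOpen V) (hWV : W ≤ g ⁻¹ᵁ V)

include hι hW hV hWV in
lemma affPair_pre : ∃ V' : S.Opens, IsAffineOpen V' ∧ ι ⁻¹ᵁ W ≤ f ⁻¹ᵁ V' := by
  subst hι
  exact ⟨V, hV, fun z hz => hWV hz⟩

include hW hV hWV in
lemma pi_surjective : Function.Surjective (pi g f ι hι W) := by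
  intro y
  have hy : y ∈ Submodule.span Γ(X, ι ⁻¹ᵁ W) (Set.range (OmegaSh.dSect f (ι ⁻¹ᵁ W))) := by
    rw [ConormalSection.span_dSect f ⟨ι ⁻¹ᵁ W, hW.preimage ι, affPair_pre g f ι hι hW hV hWV⟩]; trivial
  induction hy using Submodule.span_induction with
  | mem y hy =>
    obtain ⟨b, rfl⟩ := hy
    obtain ⟨a, ha⟩ := app_surjective ι hW b
    exact ⟨_, (pi_d g f ι hι W a).trans (congrArg _ ha)⟩
  | zero => exact ⟨0, pi_zero g f ι hι W⟩
  | add y y' _ _ hy hy' =>
    obtain ⟨z, rfl⟩ := hy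
    obtain ⟨z', rfl⟩ := hy'
    exact ⟨z + z', pi_add g f ι hι W z z'⟩
  | smul c y _ hy =>
    obtain ⟨z, rfl⟩ := hy
    obtain ⟨a, ha⟩ := app_surjective ι hW c
    exact ⟨a • z, (pi_smul g f ι hι W a z).trans (congrArg (· • _) ha)⟩

/-- `d I + I Ω`. -/
noncomputable def kerSub (W : P.Opens) : Submodule Γ(P, W) Γ(Omega.sheaf g, W) :=
  Submodule.span Γ(P, W) (OmegaSh.dSect g W '' (FundLocal.vanI ι W : Set Γ(P, W))) ⊔
    (FundLocal.vanI ι W) • (⊤ : Submodule Γ(P, W) Γ(Omega.sheaf g, W))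

include hW hV hWV in
/-- The kernel is spanned by differentials of equations, modulo the equations. -/
lemma mem_kerSub_of_pi_eq_zero (z : Γ(Omega.sheaf g, W)) (hz : pi g f ι hι W z = 0) : z ∈ kerSub g ι W := by
  let U := ι ⁻¹ᵁ W
  let K := kerSub g ι W
  let Q := Γ(Omega.sheaf g, W) ⧸ K
  let φ : Γ(P, W) →+* Γ(X, U) := (ι.app W).hom
  have hK : ∀ a ∈ RingHom.ker φ, ∀ q : Q, a • q = 0 := fun a ha q => by
    obtain ⟨x, rfl⟩ := K.mkQ_surjective q
    rw [← map_smul, Submodule.mkQ_apply, Submodule.Quotient.mk_eq_zero]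
    exact Submodule.mem_sup_right (Submodule.smul_mem_smul ha trivial)
  obtain ⟨sec, hsec⟩ := (app_surjective ι hW).hasRightInverse
  have hsec' : ∀ b, φ (sec b) = b := hsec
  have hwd : ∀ (a a' : Γ(P, W)) (q : Q), φ a = φ a' → a • q = a' • q := fun a a' q h => by
    rw [← sub_eq_zero, ← sub_smul]
    exact hK _ (by rw [RingHom.mem_ker, map_sub, h, sub_self]) q
  letI : Module Γ(X, U) Q :=
    { smul := fun c q => sec c • q
      one_smul := fun q => (hwd _ 1 q (by rw [hsec', map_one])).trans (one_smul _ q)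
      mul_smul := fun c c' q =>
        (hwd _ (sec c * sec c') q (by rw [map_mul, hsec', hsec', hsec'])).trans (mul_smul _ _ q)
      smul_zero := fun c => smul_zero (sec c)
      smul_add := fun c q q' => smul_add (sec c) q q'
      add_smul := fun c c' q =>
        (hwd _ (sec c + sec c') q (by rw [map_add, hsec', hsec', hsec'])).trans (add_smul _ _ q)
      zero_smul := fun q => (hwd _ 0 q (by rw [hsec', map_zero])).trans (zero_smul _ q) }
  have hsmul : ∀ (a : Γ(P, W)) (q : Q), φ a • q = a • q := fun a q => hwd _ _ q (hsec' (φ a))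
  have hd : ∀ a a' : Γ(P, W), φ a = φ a' → K.mkQ (OmegaSh.dSect g W a) = K.mkQ (OmegaSh.dSect g W a') := by
    intro a a' h
    have h0 : a - a' ∈ FundLocal.vanI ι W := by
      show φ (a - a') = 0
      rw [map_sub, h, sub_self]
    have h1 : OmegaSh.dSect g W a = OmegaSh.dSect g W (a - a') + OmegaSh.dSect g W a' := by
      rw [← OmegaSh.dSect_add, sub_add_cancel]
    rw [h1, map_add, Submodule.mkQ_apply, (Submodule.Quotient.mk_eq_zero K).2
      (Submodule.mem_sup_left (Submodule.subset_span ⟨_, h0, rfl⟩)), zero_add]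
  obtain ⟨V', hV', hUV⟩ := affPair_pre g f ι hι hW hV hWV
  let M : ModuleCat.{u} Γ(X, U) := ModuleCat.of Γ(X, U) Q
  let D : M.Derivation (f.appLE V U (by subst hι; exact fun z hz => hWV hz)) :=
    ModuleCat.Derivation.mk (fun b => K.mkQ (OmegaSh.dSect g W (sec b)))
      (fun b b' => by
        rw [hd _ (sec b + sec b') (by rw [map_add, hsec', hsec', hsec']), OmegaSh.dSect_add, map_add])
      (fun b b' => by
        rw [hd _ (sec b * sec b') (by rw [map_mul, hsec', hsec', hsec']), OmegaSh.dSect_mul, map_add, map_smul,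
          map_smul]
        rfl)
      (fun c => by
        rw [hd _ (g.appLE V W hWV c) (by
          rw [hsec']
          subst hι
          rw [show φ (g.appLE V W hWV c) = ι.app W (g.appLE V W hWV c) from rfl, Scheme.Hom.app_eq_appLE,
            ← ConcreteCategory.comp_apply, Scheme.Hom.appLE_comp_appLE]), OmAff.dSect_appLE, map_zero])
  let e := LinearEquiv.ofBijective (OmAff.toSect f V U (by subst hι; exact fun z hz => hWV hz)).hom
    (ConormalSection.bijective_toSect f (hW.preimage ι) hV _)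
  let l : Γ(Omega.sheaf f, U) →ₗ[Γ(X, U)] Q := D.desc.hom ∘ₗ e.symm.toLinearMap
  have hl : ∀ b, l (OmegaSh.dSect f U b) = K.mkQ (OmegaSh.dSect g W (sec b)) := fun b => by
    show D.desc.hom (e.symm (OmegaSh.dSect f U b)) = _
    rw [show OmegaSh.dSect f U b = e (CommRingCat.KaehlerDifferential.d b) from (OmAff.toSect_d f V U _ b).symm,
      LinearEquiv.symm_apply_apply]
    exact D.desc_d b
  have key : ∀ x : Γ(Omega.sheaf g, W), l (pi g f ι hι W x) = K.mkQ x := by
    intro x
    have hx : x ∈ Submodule.span Γ(P, W) (Set.range (OmegaSh.dSect g W)) := by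
      rw [ConormalSection.span_dSect g ⟨W, hW, V, hV, hWV⟩]; trivial
    induction hx using Submodule.span_induction with
    | mem x hx =>
      obtain ⟨a, rfl⟩ := hx
      rw [pi_d, hl]
      exact hd _ _ (hsec' _)
    | zero => rw [pi_zero, map_zero, map_zero]
    | add x x' _ _ hx hx' => rw [pi_add, map_add, map_add, hx, hx']
    | smul a x _ hx => rw [pi_smul, map_smul, map_smul, hx, hsmul]
  have := key z
  rw [hz, map_zero] at this
  exact (Submodule.Quotient.mk_eq_zero K).1 this.symm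

end Groth.Agent.AdjForm
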