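import Groth.Agent.AdjForm.QBasis
import Groth.Agent.ConormalSection.OmegaAffine
import Groth.Agent.ConormalSection.Universal
import Groth.Agent.ProjUniv.Chart
import Groth.Agent.BertiniHyp.Main
import Groth.Agent.NegVanish.Depth
import Groth.Agent.InvPow.VeryAmpleBase
import Mathlib.Algebra.MvPolynomial.PDeriv

/-!
# Differentials on the charts of projective space
-/

set_option autoImplicit false
set_option linter.style.haveILetI false
set_option maxHeartbeats 1000000

universe u

open CategoryTheory Opposite AlgebraicGeometry TopologicalSpace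

namespace Groth.Agent.AdjForm

variable {n : ℕ} {k : Type u} [Field k]

local notation "𝒬" => CohB1.polyGrading n k
local notation "P" => CohB1.ProjSpace n k
local notation "qP" => CohB1.ProjSpace.toSpec n k

instance quasiSeparated_toSpec : QuasiSeparated (CohB1.ProjSpace.toSpec n k) := by
  haveI : IsProper (CohB1.ProjSpace.toSpec n k) := Groth.Agent.InvPow.isProper_toSpec n k
  infer_instance

variable (n k) in
/-- The coordinates of a chart, as functions. -/
noncomputable abbrev cf (i l : Fin (n + 1)) : Γ(P, ProjUniv.D n k i) := ProjUniv.coFun n k i l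

/-- The polynomial ring onto the functions of a chart. -/
noncomputable def polyFun (i : Fin (n + 1)) : MvPolynomial (Fin n) k →+* Γ(P, ProjUniv.D n k i) :=
  (Proj.awayToSection 𝒬 (MvPolynomial.X i)).hom.comp
    (MvPolynomial.eval₂Hom (ProjPoint.chartBase i) fun j => ProjPoint.coord i (i.succAbove j))

theorem polyFun_X (i : Fin (n + 1)) (j : Fin n) : polyFun (k := k) i (MvPolynomial.X j) = cf n k i (i.succAbove j) := by
  show (Proj.awayToSection 𝒬 (MvPolynomial.X i)).hom (MvPolynomial.eval₂Hom _ _ (MvPolynomial.X j)) = _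
  rw [MvPolynomial.eval₂Hom_X']

theorem cf_self (i : Fin (n + 1)) : cf n k i i = 1 := by
  show (Proj.awayToSection 𝒬 (MvPolynomial.X i)).hom (ProjPoint.coord i i) = 1
  rw [ProjPoint.coord_self, map_one]

theorem polyFun_bijective (i : Fin (n + 1)) : Function.Bijective (polyFun (k := k) i) := by
  haveI : IsIso (Proj.awayToSection 𝒬 (MvPolynomial.X i)) :=
    (Proj.basicOpenIsoAway 𝒬 (MvPolynomial.X i) (ProjPoint.X_mem i) one_pos).isIso_hom
  refine (ConcreteCategory.bijective_of_isIso (Proj.awayToSection 𝒬 (MvPolynomial.X i))).comp ⟨?_, fun z => ?_⟩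
  · let v : Fin (n + 1) → MvPolynomial (Fin n) k :=
      Fin.insertNth (α := fun _ => MvPolynomial (Fin n) k) i 1 MvPolynomial.X
    have hvi : v i = 1 := Fin.insertNth_apply_same _ _ _
    have hu : IsUnit (MvPolynomial.eval₂Hom MvPolynomial.C v (MvPolynomial.X i)) := by
      rw [MvPolynomial.eval₂Hom_X', hvi]; exact isUnit_one
    refine Function.LeftInverse.injective (g := ProjPoint.evalAway MvPolynomial.C v _ hu) (RingHom.congr_fun
      (MvPolynomial.ringHom_ext (f := (ProjPoint.evalAway MvPolynomial.C v _ hu).comp _) (g := RingHom.id _)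
        (fun r => ?_) fun j => ?_))
    · rw [RingHom.comp_apply, MvPolynomial.eval₂Hom_C]
      exact RingHom.congr_fun (ProjUniv.evalAway_chartBase MvPolynomial.C v i hu) r
    · rw [RingHom.comp_apply, MvPolynomial.eval₂Hom_X']
      exact (ProjUniv.evalAway_coord MvPolynomial.C v i (i.succAbove j) hu hvi).trans
        (Fin.insertNth_apply_succAbove _ _ _ j)
  · obtain ⟨p, rfl⟩ := BertiniHyp.eval_coord_surjective i z
    refine ⟨MvPolynomial.eval₂Hom MvPolynomial.C (Fin.insertNth (α := fun _ => MvPolynomial (Fin n) k) i 1 MvPolynomial.X) p, ?_⟩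
    refine RingHom.congr_fun (MvPolynomial.ringHom_ext (f := RingHom.comp
        (MvPolynomial.eval₂Hom (ProjPoint.chartBase (R := k) i) fun j => ProjPoint.coord i (i.succAbove j))
        (MvPolynomial.eval₂Hom MvPolynomial.C (Fin.insertNth (α := fun _ => MvPolynomial (Fin n) k) i 1 MvPolynomial.X)))
      (g := MvPolynomial.eval₂Hom (ProjPoint.chartBase i) (ProjPoint.coord i)) (fun r => by simp) fun l => ?_) p
    rcases Fin.eq_self_or_eq_succAbove i l with rfl | ⟨j, rfl⟩
    · simp [ProjPoint.coord_self]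
    · simp [Fin.insertNth_apply_succAbove]

theorem polyFun_C (i : Fin (n + 1)) (r : k) :
    polyFun i (MvPolynomial.C r) = (qP).appLE ⊤ (ProjUniv.D n k i) (fun _ _ => trivial)
      ((Scheme.ΓSpecIso (CommRingCat.of k)).inv r) := by
  have h := RingHom.congr_fun (ProjUniv.chartMap_chartBase (n := n) (R := k) (𝟙 (Proj 𝒬))
    (q := qP) (Category.id_comp _) (i := i) (W := ProjUniv.D n k i) le_rfl) r
  show (Proj.awayToSection 𝒬 (MvPolynomial.X i)).hom (MvPolynomial.eval₂Hom _ _ (MvPolynomial.C r)) = _
  rw [MvPolynomial.eval₂Hom_C]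
  refine Eq.trans ?_ (h.trans rfl)
  show _ = ((𝟙 (Proj 𝒬) : Proj 𝒬 ⟶ Proj 𝒬).appLE _ _ _).hom ((Proj.awayToSection 𝒬 (MvPolynomial.X i)).hom _)
  rw [OmegaSh.id_appLE_eq_id (q := 𝟙 (Proj 𝒬)) rfl]
  rfl

/-- The differentials of the coordinates. -/
noncomputable def dco (i : Fin (n + 1)) (j : Fin n) : Γ(Omega.sheaf qP, ProjUniv.D n k i) :=
  OmegaSh.dSect qP (ProjUniv.D n k i) (cf n k i (i.succAbove j))

theorem dSect_const (i : Fin (n + 1)) (r : k) : OmegaSh.dSect qP (ProjUniv.D n k i) (polyFun (k := k) i (MvPolynomial.C r)) = 0 := by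
  rw [polyFun_C]
  exact OmAff.dSect_appLE qP ⊤ _ _ _

/-- They form a basis. -/
theorem exists_basis_dco (i : Fin (n + 1)) :
    ∃ b : Module.Basis (Fin n) Γ(P, ProjUniv.D n k i) Γ(Omega.sheaf qP, ProjUniv.D n k i), ⇑b = dco i := by
  classical
  let D := ProjUniv.D n k i
  have hD : IsAffineOpen D := Proj.isAffineOpen_basicOpen 𝒬 (MvPolynomial.X i) (ProjPoint.X_mem i) one_pos
  have htop : IsAffineOpen (⊤ : (Spec (CommRingCat.of k)).Opens) := isAffineOpen_top _
  have hle : D ≤ (qP) ⁻¹ᵁ ⊤ := fun _ _ => trivial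
  let e := RingEquiv.ofBijective _ (polyFun_bijective (k := k) i)
  have hsp : ⊤ ≤ Submodule.span Γ(P, D) (Set.range (dco (k := k) i)) := by
    intro z _
    have hz : z ∈ Submodule.span Γ(P, D) (Set.range (OmegaSh.dSect qP D)) := by
      rw [ConormalSection.span_dSect qP ⟨D, hD, ⊤, htop, hle⟩]; trivial
    refine Submodule.span_le.2 ?_ hz
    rintro _ ⟨a, rfl⟩
    obtain ⟨p, rfl⟩ := (polyFun_bijective i).2 a
    induction p using MvPolynomial.induction_on with
    | C r => rw [dSect_const]; exact zero_mem _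
    | add p p' hp hp' => rw [map_add, OmegaSh.dSect_add]; exact add_mem hp hp'
    | mul_X p j hp =>
      rw [map_mul, OmegaSh.dSect_mul, polyFun_X]
      exact add_mem (Submodule.smul_mem _ _ (Submodule.subset_span ⟨j, rfl⟩)) (Submodule.smul_mem _ _ hp)
  have hli : LinearIndependent Γ(P, D) (dco (k := k) i) := by
    rw [Fintype.linearIndependent_iff]
    intro a ha m
    let Dm : (ModuleCat.of Γ(P, D) Γ(P, D)).Derivation ((qP).appLE ⊤ D hle) :=
      ModuleCat.Derivation.mk (fun z => e (MvPolynomial.pderiv m (e.symm z)))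
        (fun z z' => by rw [map_add, map_add, map_add])
        (fun z z' => by
          rw [map_mul, Derivation.leibniz, map_add, smul_eq_mul, smul_eq_mul, map_mul, map_mul, e.apply_symm_apply,
            e.apply_symm_apply]
          rfl)
        (fun c => by
          obtain ⟨r, rfl⟩ := (ConcreteCategory.bijective_of_isIso (Scheme.ΓSpecIso (CommRingCat.of k)).inv).2 c
          rw [← polyFun_C]
          show e (MvPolynomial.pderiv m (e.symm (e (MvPolynomial.C r)))) = 0
          rw [e.symm_apply_apply, MvPolynomial.pderiv_C, map_zero])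
    let E := LinearEquiv.ofBijective (OmAff.toSect qP ⊤ D hle).hom (ConormalSection.bijective_toSect qP hD htop hle)
    let l : Γ(Omega.sheaf qP, D) →ₗ[Γ(P, D)] Γ(P, D) := Dm.desc.hom ∘ₗ E.symm.toLinearMap
    have hl : ∀ z, l (OmegaSh.dSect qP D z) = e (MvPolynomial.pderiv m (e.symm z)) := fun z => by
      show Dm.desc.hom (E.symm (OmegaSh.dSect qP D z)) = _
      rw [show OmegaSh.dSect qP D z = E (CommRingCat.KaehlerDifferential.d z) from (OmAff.toSect_d qP ⊤ D hle z).symm,
        LinearEquiv.symm_apply_apply]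
      exact Dm.desc_d z
    have h1 := congrArg l ha
    rw [map_sum, map_zero] at h1
    refine Eq.trans ?_ h1
    rw [Finset.sum_eq_single m]
    · rw [map_smul, dco, hl, ← polyFun_X]
      show _ = _ • e (MvPolynomial.pderiv m (e.symm (e (MvPolynomial.X m))))
      rw [e.symm_apply_apply, MvPolynomial.pderiv_X_self, map_one, smul_eq_mul, mul_one]
    · intro j _ hj
      rw [map_smul, dco, hl, ← polyFun_X]
      show _ • e (MvPolynomial.pderiv m (e.symm (e (MvPolynomial.X j)))) = _
      rw [e.symm_apply_apply, MvPolynomial.pderiv_X_of_ne hj, map_zero, smul_zero]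
    · simp
  exact ⟨Module.Basis.mk hli hsp, Module.Basis.coe_mk hli hsp⟩

end Groth.Agent.AdjForm
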