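import Groth.Agent.AdjForm.Euler
import Groth.Agent.AdjForm.ProjChart
import Groth.Agent.AdjForm.Main

/-!
# Top forms on projective space
-/

set_option autoImplicit false
set_option linter.style.haveILetI false
set_option maxHeartbeats 1000000
set_option synthInstance.maxHeartbeats 400000

universe u

open CategoryTheory Opposite AlgebraicGeometry TopologicalSpace

namespace Groth.Agent.AdjForm

open ProjUniv InvBasic

variable {n : ℕ} {k : Type u} [Field k]

local notation "𝒬" => CohB1.polyGrading n k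
local notation "P" => CohB1.ProjSpace n k

variable {ω : Scheme.Modules (CohB1.ProjSpace n k)}
  (φ : ∀ U : (CohB1.ProjSpace n k).affineOpens, (ω.val.obj (op U.1)) ≃ₗ[Γ(CohB1.ProjSpace n k, U.1)] ↥(⋀[Γ(CohB1.ProjSpace n k, U.1)]^n ((Omega.sheaf (CohB1.ProjSpace.toSpec n k)).val.obj (op U.1))))
  (hφ : ∀ (U V : (CohB1.ProjSpace n k).affineOpens) (h : V.1 ≤ U.1) (e : Fin n → (Omega.sheaf (CohB1.ProjSpace.toSpec n k)).val.obj (op U.1)),
      ω.val.map (homOfLE h).op ((φ U).symm (exteriorPower.ιMulti _ n e)) =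
        (φ V).symm (exteriorPower.ιMulti _ n (fun j => (Omega.sheaf (CohB1.ProjSpace.toSpec n k)).val.map (homOfLE h).op (e j))))

variable (n k) in
/-- The chart, as an open of projective space. -/
noncomputable abbrev U (i : Fin (n + 1)) : (CohB1.ProjSpace n k).Opens := ProjUniv.D n k i

lemma isAffineOpen_D (i : Fin (n + 1)) : IsAffineOpen (U n k i) :=
  Proj.isAffineOpen_basicOpen 𝒬 (MvPolynomial.X i) (ProjPoint.X_mem i) one_pos

lemma isAffineOpen_DD (i j : Fin (n + 1)) : IsAffineOpen (U n k i ⊓ U n k j) := by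
  show IsAffineOpen (X := Proj 𝒬) (Proj.basicOpen 𝒬 (MvPolynomial.X i) ⊓ Proj.basicOpen 𝒬 (MvPolynomial.X j))
  rw [← Proj.basicOpen_mul]
  exact Proj.isAffineOpen_basicOpen 𝒬 _ (SetLike.mul_mem_graded (ProjPoint.X_mem i) (ProjPoint.X_mem j)) two_pos

/-- The Euler form of coordinate functions on an affine open. -/
noncomputable def eulerSec {W : (CohB1.ProjSpace n k).Opens} (hW : IsAffineOpen W) (c : Fin (n + 1) → Γ(P, W)) : Γ(ω, W) :=
  euler (wedge φ hW) fun l => (c l, OmegaSh.dSect (CohB1.ProjSpace.toSpec n k) W (c l))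

include hφ in
lemma eulerSec_res {W W' : (CohB1.ProjSpace n k).Opens} (hW : IsAffineOpen W) (hW' : IsAffineOpen W') (h : W' ≤ W)
    (c : Fin (n + 1) → Γ(P, W)) :
    ω.presheaf.map (homOfLE h).op (eulerSec φ hW c) =
      eulerSec φ hW' fun l => (CohB1.ProjSpace n k).presheaf.map (homOfLE h).op (c l) := by
  rw [eulerSec, eulerSec, euler_apply, euler_apply, map_sum]
  refine Finset.sum_congr rfl fun i _ => ?_
  rw [map_zsmul, Scheme.Modules.map_smul, wedge_res φ hφ hW hW' h]
  congr 2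
  refine congrArg _ (funext fun j => ?_)
  exact ConormalSection.dSect_res (CohB1.ProjSpace.toSpec n k) h _

/-- The generator of top forms on a chart. -/
noncomputable def topGen (i : Fin (n + 1)) : Γ(ω, U n k i) := eulerSec φ (isAffineOpen_D i) (cf n k i)

include hφ in
lemma isBasis_topGen (i : Fin (n + 1)) : IsBasis ω (topGen φ i) := by
  obtain ⟨b, hb⟩ := exists_basis_dco (k := k) i
  haveI := ConormalSection.omega_isQuasicoherent ((CohB1.ProjSpace.toSpec n k))
  have h1 := isBasis_wedge φ hφ (isAffineOpen_D i) b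
  have h0 : OmegaSh.dSect (CohB1.ProjSpace.toSpec n k) (U n k i) (cf n k i i) = 0 := by
    rw [cf_self]
    have h := OmegaSh.dSect_mul (CohB1.ProjSpace.toSpec n k) (U n k i) 1 1
    rw [mul_one, _root_.one_smul, left_eq_add] at h
    exact h
  have h2 : topGen φ i = (((-1 : ℤ) ^ (i : ℕ) : ℤ) : Γ(P, U n k i)) • wedge φ (isAffineOpen_D i) ⇑b := by
    rw [topGen, eulerSec, euler_chart _ _ _ i (cf_self i) h0, Int.cast_smul_eq_zsmul, hb]
    rfl
  refine isBasis_of_smul h1 (a := (((-1 : ℤ) ^ (i : ℕ) : ℤ) : Γ(P, U n k i))) ?_ h2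
  rw [h2, smul_smul, ← Int.cast_mul, ← mul_pow]
  simp

variable (n k) in
/-- `1 / X_i^(n+1)`. -/
noncomputable def twGen (i : Fin (n + 1)) : Γ(Twist.twistProjSpace n k (-((n : ℤ) + 1)), U n k i) :=
  ProjTwist.fracSect (𝒜 := 𝒬) (U n k i) (i := 0) (j := n + 1) ⟨1, SetLike.GradedOne.one_mem⟩
    ⟨MvPolynomial.X i ^ (n + 1), by simpa using SetLike.pow_mem_graded (n + 1) (ProjPoint.X_mem i)⟩
    (fun x hx => x.2 (x.1.isPrime.mem_of_pow_mem _ hx)) (by push_cast; ring)

lemma isBasis_twGen (i : Fin (n + 1)) : IsBasis (Twist.twistProjSpace n k (-((n : ℤ) + 1))) (twGen n k i) := by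
  intro W hW
  exact ProjTwist.bijective_smul_fracSect (𝒜 := 𝒬) (W := W) (i := 0) (j := n + 1) ⟨1, SetLike.GradedOne.one_mem⟩
    ⟨MvPolynomial.X i ^ (n + 1), by simpa using SetLike.pow_mem_graded (n + 1) (ProjPoint.X_mem i)⟩
    (fun x => ProjTwist.notMem_one 𝒬 x.1) (fun x hx => (hW x.2) (x.1.isPrime.mem_of_pow_mem _ hx))
    (by push_cast; ring)

lemma cf_change (i j l : Fin (n + 1)) :
    resR (inf_le_right : U n k i ⊓ U n k j ≤ U n k j) (cf n k j l) =
      resR (inf_le_left : U n k i ⊓ U n k j ≤ U n k i) (cf n k i l) *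
        resR (inf_le_right : U n k i ⊓ U n k j ≤ U n k j) (cf n k j i) := by
  have h1 := congrArg (res (O1 n k) (inf_le_right : U n k i ⊓ U n k j ≤ U n k j)) (co_rel (n := n) (R := k) j l)
  have h2 := congrArg (res (O1 n k) (inf_le_left : U n k i ⊓ U n k j ≤ U n k i)) (co_rel (n := n) (R := k) i l)
  have h3 := congrArg (res (O1 n k) (inf_le_right : U n k i ⊓ U n k j ≤ U n k j)) (co_rel (n := n) (R := k) j i)
  simp only [res_smul, gres, res_res] at h1 h2 h3
  rw [h3, smul_smul] at h2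
  refine InvPow.coef_unique ((isBasis_co (R := k) j).restrict (inf_le_right : U n k i ⊓ U n k j ≤ U n k j)) ?_
  simp only [gres]
  rw [QCohLib.map_map]
  exact h1.symm.trans h2

lemma twGen_change (i j : Fin (n + 1)) :
    res (Twist.twistProjSpace n k (-((n : ℤ) + 1))) (inf_le_right : U n k i ⊓ U n k j ≤ U n k j) (twGen n k j) =
      resR (inf_le_right : U n k i ⊓ U n k j ≤ U n k j) (cf n k j i) ^ (n + 1) •
        res (Twist.twistProjSpace n k (-((n : ℤ) + 1))) (inf_le_left : U n k i ⊓ U n k j ≤ U n k i) (twGen n k i) := by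
  refine ProjTwist.sectN_ext fun y => Eq.symm ?_
  refine (ProjTwist.smulT_val _ _ y).trans ?_
  have hy := congrArg (fun s : Twist.sectN (𝒜 := 𝒬) (1 : ℤ) (op (U n k j)) => (s.1 ⟨y.1, y.2.2⟩).1)
    (co_rel (n := n) (R := k) j i)
  erw [ProjTwist.smulT_val] at hy
  let val : Γ(P, U n k i ⊓ U n k j) →+* Twist.Loc 𝒬 y.1 :=
    { toFun := fun c => (c.1 y).val
      map_one' := HomogeneousLocalization.val_one
      map_mul' := fun a b => HomogeneousLocalization.val_mul _ _
      map_zero' := HomogeneousLocalization.val_zero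
      map_add' := fun a b => HomogeneousLocalization.val_add _ _ }
  let v : Twist.Loc 𝒬 y.1 := val (resR (inf_le_right : U n k i ⊓ U n k j ≤ U n k j) (cf n k j i))
  have hi : (MvPolynomial.X i : MvPolynomial (Fin (n + 1)) k) ∈ y.1.asHomogeneousIdeal.toIdeal.primeCompl := y.2.1
  have hj : (MvPolynomial.X j : MvPolynomial (Fin (n + 1)) k) ∈ y.1.asHomogeneousIdeal.toIdeal.primeCompl := y.2.2
  have hv : algebraMap (MvPolynomial (Fin (n + 1)) k) (Twist.Loc 𝒬 y.1) (MvPolynomial.X i) = v * algebraMap (MvPolynomial (Fin (n + 1)) k) (Twist.Loc 𝒬 y.1) (MvPolynomial.X j) := by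
    rw [← Localization.mk_one_eq_algebraMap, ← Localization.mk_one_eq_algebraMap]
    exact hy
  let z : Twist.Loc 𝒬 y.1 := Localization.mk (1 : MvPolynomial (Fin (n + 1)) k)
    ⟨MvPolynomial.X i ^ (n + 1), pow_mem hi (n + 1)⟩
  let z' : Twist.Loc 𝒬 y.1 := Localization.mk (1 : MvPolynomial (Fin (n + 1)) k)
    ⟨MvPolynomial.X j ^ (n + 1), pow_mem hj (n + 1)⟩
  have hz : algebraMap (MvPolynomial (Fin (n + 1)) k) (Twist.Loc 𝒬 y.1) (MvPolynomial.X i) ^ (n + 1) * z = 1 := by
    rw [← map_pow, ← Localization.mk_one_eq_algebraMap, Localization.mk_mul, mul_one, one_mul]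
    exact Localization.mk_self (⟨MvPolynomial.X i ^ (n + 1), pow_mem hi (n + 1)⟩ : y.1.asHomogeneousIdeal.toIdeal.primeCompl)
  have hz' : algebraMap (MvPolynomial (Fin (n + 1)) k) (Twist.Loc 𝒬 y.1) (MvPolynomial.X j) ^ (n + 1) * z' = 1 := by
    rw [← map_pow, ← Localization.mk_one_eq_algebraMap, Localization.mk_mul, mul_one, one_mul]
    exact Localization.mk_self (⟨MvPolynomial.X j ^ (n + 1), pow_mem hj (n + 1)⟩ : y.1.asHomogeneousIdeal.toIdeal.primeCompl)
  refine Eq.trans (congrArg (· * z) (map_pow val (resR (inf_le_right : U n k i ⊓ U n k j ≤ U n k j) (cf n k j i)) (n + 1))) ?_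
  show v ^ (n + 1) * z = z'
  calc v ^ (n + 1) * z = v ^ (n + 1) * z * (algebraMap (MvPolynomial (Fin (n + 1)) k) (Twist.Loc 𝒬 y.1) (MvPolynomial.X j) ^ (n + 1) * z') := by rw [hz', mul_one]
    _ = (v * algebraMap (MvPolynomial (Fin (n + 1)) k) (Twist.Loc 𝒬 y.1) (MvPolynomial.X j)) ^ (n + 1) * z * z' := by ring
    _ = z' := by rw [← hv, hz, one_mul]

include hφ in
lemma topGen_change (i j : Fin (n + 1)) :
    res ω (inf_le_right : U n k i ⊓ U n k j ≤ U n k j) (topGen φ j) =
      resR (inf_le_right : U n k i ⊓ U n k j ≤ U n k j) (cf n k j i) ^ (n + 1) •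
        res ω (inf_le_left : U n k i ⊓ U n k j ≤ U n k i) (topGen φ i) := by
  haveI := ConormalSection.omega_isQuasicoherent ((CohB1.ProjSpace.toSpec n k))
  obtain ⟨b, -⟩ := exists_basis_dco (k := k) i
  obtain ⟨b', -⟩ := exists_basis_res (Omega.sheaf (CohB1.ProjSpace.toSpec n k)) (isAffineOpen_D i) b (inf_le_left : U n k i ⊓ U n k j ≤ U n k i)
  let W : (CohB1.ProjSpace n k).Opens := U n k i ⊓ U n k j
  have hW : IsAffineOpen W := isAffineOpen_DD i j
  let u : Γ(P, W) := resR (inf_le_right : U n k i ⊓ U n k j ≤ U n k j) (cf n k j i)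
  let ci : Fin (n + 1) → Γ(P, W) := fun l => resR (inf_le_left : U n k i ⊓ U n k j ≤ U n k i) (cf n k i l)
  have hu : u * ci j = 1 := by
    have h := cf_change (k := k) i j j
    rw [cf_self] at h
    rw [mul_comm]
    exact h.symm.trans (map_one ((CohB1.ProjSpace n k).presheaf.map (homOfLE (inf_le_right : U n k i ⊓ U n k j ≤ U n k j)).op).hom)
  refine (eulerSec_res φ hφ (isAffineOpen_D j) hW inf_le_right _).trans (Eq.trans ?_
    (congrArg (u ^ (n + 1) • ·) (eulerSec_res φ hφ (isAffineOpen_D i) hW inf_le_left _).symm))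
  show euler (wedge φ hW) _ = u ^ (n + 1) • euler (wedge φ hW) (fun l => (ci l, OmegaSh.dSect (CohB1.ProjSpace.toSpec n k) W (ci l)))
  rw [← euler_scale (wedge φ hW) b' u (OmegaSh.dSect (CohB1.ProjSpace.toSpec n k) W u) (ci j • OmegaSh.dSect (CohB1.ProjSpace.toSpec n k) W u)
    (by rw [smul_smul, hu, _root_.one_smul]) ci (fun l => OmegaSh.dSect (CohB1.ProjSpace.toSpec n k) W (ci l))]
  refine congrArg _ (funext fun l => ?_)
  have hl : resR (inf_le_right : U n k i ⊓ U n k j ≤ U n k j) (cf n k j l) = u * ci l := by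
    rw [cf_change, mul_comm]
  refine Prod.ext hl ?_
  show OmegaSh.dSect (CohB1.ProjSpace.toSpec n k) W (resR (inf_le_right : U n k i ⊓ U n k j ≤ U n k j) (cf n k j l)) = _
  rw [hl, OmegaSh.dSect_mul]

include hφ in
theorem nonempty_iso_twist : Nonempty (ω ≅ Twist.twistProjSpace n k (-((n : ℤ) + 1))) := by
  refine InvPow.nonempty_iso_of_bases (V := fun i : ULift.{u} (Fin (n + 1)) => U n k i.down)
    (fun x => by
      obtain ⟨i, hi⟩ := exists_mem_D (n := n) (R := k) x
      exact ⟨⟨i⟩, hi⟩)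
    (a := fun i => topGen φ i.down) (b := fun i => twGen n k i.down)
    (fun i => isBasis_topGen φ hφ i.down) (fun i j W hi hj t ht => ?_) (fun i => isBasis_twGen i.down)
  have hle : W ≤ U n k i.down ⊓ U n k j.down := le_inf hi hj
  have ha := congrArg (res ω hle) (topGen_change φ hφ i.down j.down)
  rw [res_smul, res_res, res_res] at ha
  have hb := congrArg (res (Twist.twistProjSpace n k (-((n : ℤ) + 1))) hle) (twGen_change (k := k) i.down j.down)
  rw [res_smul, res_res, res_res] at hb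
  rw [InvPow.coef_unique (InvPow.isBasis_res (isBasis_topGen φ hφ i.down) hi) (ht.symm.trans ha)]
  exact hb

end Groth.Agent.AdjForm
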