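import Groth.Agent.ModGroth.StalkBasis
import Groth.Agent.QCohLib.StalkLoc
import Mathlib.RingTheory.Localization.Module

/-!
# Bases of sections of quasi-coherent modules are bases on every smaller open
-/

set_option autoImplicit false
set_option linter.style.haveILetI false

universe u

open CategoryTheory Opposite AlgebraicGeometry TopologicalSpace

namespace Groth.Agent.AdjForm

open Groth.Agent.ModGroth

/-- A basis of the sections over an affine open restricts to a basis over each smaller open. -/
theorem exists_basis_res {X : Scheme.{u}} (M : X.Modules) [M.IsQuasicoherent] {U : X.Opens} (hU : IsAffineOpen U) {n : ℕ}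
    (b : Module.Basis (Fin n) Γ(X, U) Γ(M, U)) {W : X.Opens} (h : W ≤ U) :
    ∃ b' : Module.Basis (Fin n) Γ(X, W) Γ(M, W), ∀ i, b' i = M.presheaf.map (homOfLE h).op (b i) := by
  have hst : LocBasis.IsStalkBasis (E := M) (U := U) (fun i => b i) := by
    intro x hx
    letI := (X.presheaf.germ U x hx).hom.toAlgebra
    letI := QCohLib.germModule M x hx
    haveI : IsScalarTower Γ(X, U) (X.presheaf.stalk x) (M.presheaf.stalk x) :=
      IsScalarTower.of_algebraMap_smul fun _ _ => rfl
    haveI : IsLocalization (hU.primeIdealOf ⟨x, hx⟩).asIdeal.primeCompl (X.presheaf.stalk x) :=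
      hU.isLocalization_stalk ⟨x, hx⟩
    haveI := QCohLib.isLocalizedModule_germ (M := M) hU x hx
    let b' := b.ofIsLocalizedModule (X.presheaf.stalk x) (hU.primeIdealOf ⟨x, hx⟩).asIdeal.primeCompl
      (QCohLib.germLinearMap M x hx)
    have hb : ⇑b' = fun i => M.presheaf.germ U x hx (b i) := funext fun i =>
      Module.Basis.ofIsLocalizedModule_apply _ _ _ b i
    have h2 : Function.Bijective (Fintype.linearCombination (X.presheaf.stalk x) ⇑b') := by
      rw [show (Fintype.linearCombination (X.presheaf.stalk x) ⇑b' : (Fin n → X.presheaf.stalk x) → _) =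
        b'.equivFun.symm from funext fun c => by rw [Fintype.linearCombination_apply, Module.Basis.equivFun_symm_apply]]
      exact b'.equivFun.symm.bijective
    rw [hb] at h2
    exact h2
  have hb := LocBasis.isBasis_of_isStalkBasis hst W (homOfLE h)
  let l : (Fin n → Γ(X, W)) →ₗ[Γ(X, W)] Γ(M, W) :=
    Fintype.linearCombination Γ(X, W) (fun i => M.presheaf.map (homOfLE h).op (b i))
  have hl : Function.Bijective l := hb
  refine ⟨Module.Basis.ofEquivFun (LinearEquiv.ofBijective l hl).symm, fun i => ?_⟩
  rw [Module.Basis.ofEquivFun, Module.Basis.coe_ofRepr]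
  simp [l]

end Groth.Agent.AdjForm
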