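import Groth.Agent.EquidimFlat.Basic
import Groth.Agent.DimMaps.Cases
import Groth.Agent.SmoothFibreDim.Basic

/-!
# Smooth irreducible schemes are smooth of relative dimension equal to their dimension
-/

set_option autoImplicit false
set_option linter.style.haveILetI false

universe u

open CategoryTheory AlgebraicGeometry TopologicalSpace

namespace Groth.Agent.AdjForm

/-- A smooth irreducible scheme of dimension `n` over a field is smooth of relative dimension `n`. -/
theorem smoothOfRelativeDimension_of_irreducible {k : Type u} [Field k] {X : Scheme.{u}} [IrreducibleSpace X]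
    (f : X ⟶ Spec (CommRingCat.of k)) [Smooth f] (n : ℕ) (hn : topologicalKrullDim X = (n : WithBot ℕ∞)) :
    SmoothOfRelativeDimension n f := by
  obtain ⟨d, hd, hcomp⟩ := EquidimFlat.exists_dim_of_irreducible f
  rw [hd, Nat.cast_inj] at hn
  subst hn
  rw [smoothOfRelativeDimension_iff]
  intro x
  obtain ⟨U, hU, V, hV, hxV, e, h⟩ := Smooth.exists_isStandardSmooth f x
  algebraize [(f.appLE U V e).hom]
  haveI : Algebra.IsStandardSmooth Γ(Spec (CommRingCat.of k), U) Γ(X, V) := h
  obtain ⟨ι₀, σ₀, _, _, ⟨P⟩⟩ := h.out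
  let m := P.dimension
  have hm : Algebra.IsStandardSmoothOfRelativeDimension m Γ(Spec (CommRingCat.of k), U) Γ(X, V) :=
    P.isStandardSmoothOfRelativeDimension rfl
  refine ⟨U, hU, V, hV, hxV, e, ?_⟩
  haveI : SmoothOfRelativeDimension m (V.ι ≫ f) := by
    rw [smoothOfRelativeDimension_iff]
    intro y
    haveI : IsAffine (V : Scheme.{u}) := hV
    refine ⟨U, hU, ⊤, isAffineOpen_top _, trivial, fun z _ => e z.2, ?_⟩
    rw [show (V.ι ≫ f).appLE U ⊤ (fun z _ => e z.2) = f.appLE U V e ≫ V.topIso.inv by
      rw [Scheme.Opens.topIso_inv, Scheme.Hom.comp_appLE, Scheme.Opens.ι_appLE]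
      simp only [Scheme.Hom.appLE, Category.assoc, ← Functor.map_comp]
      exact congrArg (f.app U ≫ ·) ((congrArg X.presheaf.map (Subsingleton.elim _ _)).trans (X.presheaf.map_comp _ _))]
    exact RingHom.isStandardSmoothOfRelativeDimension_respectsIso.1 _ V.topIso.symm.commRingCatIsoToRingEquiv hm
  have h1 := DimMaps.localDim_eq_of_etale V.ι ⟨x, hxV⟩
  rw [SmoothFibreDim.localDim_eq (V.ι ≫ f) m, EquidimFlat.localDim_eq_of_components f hcomp, Nat.cast_inj] at h1
  rw [← h1]
  exact hm

end Groth.Agent.AdjForm
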