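import Groth.Agent.AdjForm.ProjOmega
import Groth.Agent.AdjForm.Apps
import Groth.Agent.BertiniAff.Section
import Groth.Agent.SmoothFibreDim.Basic
import Groth.Agent.GrpdDim.Equidim
import Groth.Agent.CohDual.ProjDualizing
import Groth.Agent.InvPow.VeryAmpleBase
import Groth.Agent.S11903

/-!
# Top forms are dualizing on smooth projective schemes
-/

set_option autoImplicit false
set_option linter.style.haveILetI false
set_option maxHeartbeats 1000000

universe u

open CategoryTheory CategoryTheory.Limits Opposite AlgebraicGeometry TopologicalSpace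

namespace Groth.Agent.AdjForm

variable {n : ℕ} {k : Type u} [Field k]

local notation "𝒬" => CohB1.polyGrading n k

variable (n k) in
/-- Projective space is smooth of relative dimension `n`. -/
theorem smoothOfRelativeDimension_toSpec : SmoothOfRelativeDimension n (CohB1.ProjSpace.toSpec n k) := by
  constructor
  intro x
  obtain ⟨i, hi⟩ := ProjUniv.exists_mem_D (n := n) (R := k) x
  refine ⟨⊤, isAffineOpen_top _, U n k i, isAffineOpen_D i, hi, fun _ _ => trivial, ?_⟩
  let A := Γ(Spec (CommRingCat.of k), ⊤)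
  let g := ((CohB1.ProjSpace.toSpec n k).appLE ⊤ (U n k i) fun _ _ => trivial).hom
  let ek : k ≃+* A := (Scheme.ΓSpecIso (CommRingCat.of k)).commRingCatIsoToRingEquiv.symm
  let ep := RingEquiv.ofBijective _ (polyFun_bijective (k := k) i)
  have hc : g.comp ek.toRingHom = ep.toRingHom.comp (algebraMap k (MvPolynomial (Fin n) k)) :=
    RingHom.ext fun r => (polyFun_C (k := k) i r).symm
  have hC : (algebraMap k (MvPolynomial (Fin n) k)).IsStandardSmoothOfRelativeDimension n :=
    (RingHom.isStandardSmoothOfRelativeDimension_algebraMap n).2 (BertiniAff.isStandardSmooth_mvPolynomial n)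
  have h1 := (RingHom.isStandardSmoothOfRelativeDimension_respectsIso (n := n)).1 _ ep hC
  rw [← hc] at h1
  have h2 := (RingHom.isStandardSmoothOfRelativeDimension_respectsIso (n := n)).2 _ ek.symm h1
  rw [RingHom.comp_assoc, show ek.toRingHom.comp ek.symm.toRingHom = RingHom.id _ from RingHom.ext ek.apply_symm_apply,
    RingHom.comp_id] at h2
  exact h2

variable {r : ℕ} {X : Scheme.{u}} (ι : X ⟶ CohB1.ProjSpace n k) [IsClosedImmersion ι]

/-- Components of a smooth scheme have the expected dimension. -/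
theorem dim_component {X : Scheme.{u}} (f : X ⟶ Spec (CommRingCat.of k)) (r : ℕ) [SmoothOfRelativeDimension r f]
    (Z : Set X) (hZ : Z ∈ irreducibleComponents X) : topologicalKrullDim Z = (r : WithBot ℕ∞) := by
  haveI : Smooth f := SmoothOfRelativeDimension.smooth r f
  obtain ⟨η, hη⟩ := QuasiSober.sober hZ.1 (isClosed_of_mem_irreducibleComponents Z hZ)
  have hη' : closure ({η} : Set X) = Z := hη.def
  have hmax := (GrpdDim.maximal_iff η).2 (hη' ▸ hZ)
  obtain ⟨h, a, m, hh, ha, hsum, η', hη'η, -, hm⟩ := CohDual.DimFormula.exists_dim_eq f η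
  rw [hmax η' hη'η] at hm
  rw [hm, Nat.cast_inj] at ha
  have h0 : h = 0 := by omega
  have hd := LocalDim.localDim_eq_stalk_add_closure f η
  rw [SmoothFibreDim.localDim_eq f r η, hh, h0, Nat.cast_zero, zero_add] at hd
  rw [← hη']
  exact hd.symm

/-- The top forms of projective space. -/
theorem exists_topForms : ∃ ω : (CohB1.ProjSpace n k).Modules, ExtPow.IsExtPow n (Omega.sheaf (CohB1.ProjSpace.toSpec n k)) ω ∧
    Nonempty (ω ≅ Twist.twistProjSpace n k (-((n : ℤ) + 1))) := by
  haveI := ConormalSection.omega_isQuasicoherent (CohB1.ProjSpace.toSpec n k)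
  obtain ⟨ω, hω, -⟩ := exists_isExtPow (Omega.sheaf (CohB1.ProjSpace.toSpec n k)) n fun x => by
    obtain ⟨i, hi⟩ := ProjUniv.exists_mem_D (n := n) (R := k) x
    obtain ⟨b, -⟩ := exists_basis_dco (k := k) i
    exact ⟨U n k i, hi, isAffineOpen_D i, ⟨b⟩⟩
  obtain ⟨φ, hφ⟩ := hω
  exact ⟨ω, ⟨φ, hφ⟩, nonempty_iso_twist φ hφ⟩

/-- Top forms are the Ext sheaf of the dualizing sheaf of projective space. -/
theorem nonempty_push_iso_extSh_twist (f : X ⟶ Spec (CommRingCat.of k)) (hι : ι ≫ CohB1.ProjSpace.toSpec n k = f)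
    [SmoothOfRelativeDimension r f] {ωX : X.Modules} (hωX : ExtPow.IsExtPow r (Omega.sheaf f) ωX)
    [ModSite.HasSheafHom (O := (CohB1.ProjSpace n k).sheaf) ((Scheme.Modules.pushforward ι).obj (Coh.structureModule X))]
    [HasInjectiveResolutions (ModSite.Mod (CohB1.ProjSpace n k).sheaf)] :
    Nonempty ((Scheme.Modules.pushforward ι).obj ωX ≅
      (ModSite.extSh (O := (CohB1.ProjSpace n k).sheaf) ((Scheme.Modules.pushforward ι).obj (Coh.structureModule X)) (n - r)).obj
        (Twist.twistProjSpace n k (-((n : ℤ) + 1)))) := by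
  haveI := smoothOfRelativeDimension_toSpec n k
  haveI : Smooth (CohB1.ProjSpace.toSpec n k) := SmoothOfRelativeDimension.smooth n _
  haveI : IsLocallyNoetherian (CohB1.ProjSpace n k) :=
    LocallyOfFiniteType.isLocallyNoetherian (CohB1.ProjSpace.toSpec n k)
  haveI : QuasiSeparated f := by rw [← hι]; infer_instance
  obtain ⟨ω, hω, ⟨e⟩⟩ := exists_topForms (n := n) (k := k)
  obtain ⟨e1⟩ := nonempty_push_iso_extSh (CohB1.ProjSpace.toSpec n k) f ι hι n r hω hωX
  exact ⟨e1 ≪≫ (ModSite.extSh (O := (CohB1.ProjSpace n k).sheaf)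
    ((Scheme.Modules.pushforward ι).obj (Coh.structureModule X)) (n - r)).mapIso e⟩

/-- The relative dimension is at most that of the ambient space. -/
theorem dim_le [Nonempty X] (f : X ⟶ Spec (CommRingCat.of k)) (hι : ι ≫ CohB1.ProjSpace.toSpec n k = f)
    [SmoothOfRelativeDimension r f] : r ≤ n := by
  haveI := smoothOfRelativeDimension_toSpec n k
  haveI : Smooth (CohB1.ProjSpace.toSpec n k) := SmoothOfRelativeDimension.smooth n _
  haveI : Smooth f := SmoothOfRelativeDimension.smooth r f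
  haveI : IsLocallyNoetherian (CohB1.ProjSpace n k) :=
    LocallyOfFiniteType.isLocallyNoetherian (CohB1.ProjSpace.toSpec n k)
  haveI : QuasiSeparated f := by rw [← hι]; infer_instance
  obtain ⟨x⟩ := ‹Nonempty X›
  have hreg := isRegularImmersionOfCodim_sub (CohB1.ProjSpace.toSpec n k) f ι hι n r
    (isRegularImmersion_regular (CohB1.ProjSpace.toSpec n k) f ι hι)
  obtain ⟨W, hxW, -, ⟨C⟩⟩ := exists_chart (CohB1.ProjSpace.toSpec n k) f ι hι n r (n - r) hreg x ⊤ trivial
  have := C.dim_eq x hxW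
  omega

/-- Cohomology of a zero module vanishes. -/
theorem eq_zero_HH {M : X.Modules} (hM : IsZero M) {q : ℕ} (x : Coh.HH X M q) : x = 0 := by
  have hz : IsZero ((SheafOfModules.toSheaf X.ringCatSheaf).obj M) := Functor.map_isZero _ hM
  rw [← Abelian.Ext.comp_mk₀_id x, hz.eq_of_src (𝟙 _) 0, Abelian.Ext.mk₀_zero, Abelian.Ext.comp_zero]

theorem exists_dualizing_smooth [X.Over (Spec (CommRingCat.of k))]
    (hι : ι ≫ CohB1.ProjSpace.toSpec n k = X ↘ Spec (CommRingCat.of k))
    [SmoothOfRelativeDimension r (X ↘ Spec (CommRingCat.of k))]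
    (Ω : X.Modules) (hΩ : ExtPow.IsExtPow r (Omega.sheaf (X ↘ Spec (CommRingCat.of k))) Ω) :
    ∃ t : Coh.HH X Ω r →ₗ[k] k, ∀ F : X.Modules, Coh.IsCoh F → ∀ ψ : Coh.HH X F r →ₗ[k] k,
      ∃! φ : F ⟶ Ω, ∀ x : Coh.HH X F r,
        ψ x = t (Sheaf.H.map ((SheafOfModules.toSheaf X.ringCatSheaf).map φ) r x) := by
  rcases isEmpty_or_nonempty X with hX | hX
  · refine ⟨0, fun F _ ψ => ⟨0, fun x => ?_, fun φ _ => (CohDual.isZero_of_isEmpty F).eq_of_src _ _⟩⟩
    rw [eq_zero_HH (CohDual.isZero_of_isEmpty F) x, map_zero]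
    rfl
  haveI : ModSite.HasSheafHom (O := (CohB1.ProjSpace n k).sheaf) ((Scheme.Modules.pushforward ι).obj (Coh.structureModule X)) :=
    Groth.Agent.ModGroth.hasSheafHom (O := (CohB1.ProjSpace n k).sheaf) _
  haveI : IsGrothendieckAbelian.{u} (ModSite.Mod (CohB1.ProjSpace n k).sheaf) :=
    Groth.Agent.ModGroth.sheaf_isGrothendieckAbelian (ModSite.ringSh (CohB1.ProjSpace n k).sheaf)
  haveI : HasInjectiveResolutions (ModSite.Mod (CohB1.ProjSpace n k).sheaf) := inferInstance
  exact Groth.Agent.S11903.result k n r (dim_le ι _ hι) X ι hι (dim_component (X ↘ Spec (CommRingCat.of k)) r) Ω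
    (nonempty_push_iso_extSh_twist ι _ hι hΩ)

end Groth.Agent.AdjForm
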