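import Groth.Agent.AdjForm.SmoothDual
import Groth.Agent.CohDual.SmoothEquidim
import Groth.Agent.DepthLib.CMModule
import Groth.Agent.InvPow.Resolution
import Groth.Agent.S10831

/-!
# Hypotheses of Serre duality for smooth projective schemes
-/

set_option autoImplicit false
set_option linter.style.haveILetI false

universe u

open CategoryTheory CategoryTheory.Limits Opposite AlgebraicGeometry TopologicalSpace

namespace Groth.Agent.AdjForm

variable {k : Type u} [Field k] {X : Scheme.{u}} (f : X ⟶ Spec (CommRingCat.of k)) (n : ℕ) [SmoothOfRelativeDimension n f]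

include f in
theorem dim_eq_of_nonempty [Nonempty X] : topologicalKrullDim X = (n : WithBot ℕ∞) := by
  rw [Groth.Agent.S10831.result X]
  refine le_antisymm (iSup₂_le fun Z hZ => (dim_component f n Z hZ).le) ?_
  obtain ⟨x⟩ := ‹Nonempty X›
  obtain ⟨η, -, hη⟩ := GrpdDim.exists_maximal x
  refine le_trans ?_ (le_iSup₂ (f := fun Z (_ : Z ∈ irreducibleComponents X) => topologicalKrullDim ↥Z) _
    ((GrpdDim.maximal_iff η).1 hη))
  rw [dim_component f n _ ((GrpdDim.maximal_iff η).1 hη)]

include f n in
theorem cohenMacaulay_stalk (x : X) : LocCoh.IsCohenMacaulayLocalRing (X.presheaf.stalk x) := by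
  haveI : Smooth f := SmoothOfRelativeDimension.smooth n f
  haveI := CohDual.SmoothEquidim.isRegularLocalRing_stalk f x
  exact DepthLib.isCohenMacaulayLocalRing_of_isRegularLocalRing _

include f in
theorem ringKrullDim_stalk_closed (x : X) (hx : IsClosed ({x} : Set X)) :
    ringKrullDim (X.presheaf.stalk x) = (n : WithBot ℕ∞) := by
  haveI : Smooth f := SmoothOfRelativeDimension.smooth n f
  have hd := LocalDim.localDim_eq_stalk_add_closure f x
  have h0 : topologicalKrullDim ({x} : Set X) = 0 := le_antisymm
    (topologicalKrullDim_zero_of_discreteTopology ({x} : Set X))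
    (haveI : Nonempty (IrreducibleCloseds ({x} : Set X)) := ⟨⟨closure {(⟨x, rfl⟩ : ({x} : Set X))},
      isIrreducible_singleton.closure, isClosed_closure⟩⟩; Order.krullDim_nonneg)
  rw [SmoothFibreDim.localDim_eq f n x, hx.closure_eq, h0, add_zero] at hd
  exact hd.symm

theorem isCoh_topForms {ω : X.Modules} (hω : ExtPow.IsExtPow n (Omega.sheaf f) ω) [QuasiSeparated f] [IsLocallyNoetherian X] :
    Coh.IsCoh ω := by
  obtain ⟨φ, hφ⟩ := hω
  exact InvPow.isCoh_of_isInvertible (isInvertible_omegaP φ hφ)

end Groth.Agent.AdjForm
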